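import Mathlib
import Cfsg.Prelude
import Cfsg.Agent.Lib.Helper5.KSEnd.Model

set_option autoImplicit false
set_option linter.unusedSectionVars false
set_option linter.unusedVariables false
set_option maxHeartbeats 1000000
open Cfsg Equiv

/-! Further concrete facts on `S₄` and `C₂ × S₄`, by enumeration, for the endgame of the main
theorem on groups of local characteristic `2` with solvable `2`-locals. -/

namespace Cfsg.Agent.Lib.Helper5.KSFin

open Cfsg.Agent.Lib.Helper5.KSEnd

/-- the model group `C₂ × S₄` -/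
abbrev M4 := Multiplicative (ZMod 2) × Perm (Fin 4)

/-- membership in `1 × V₄` -/
def inV4m (m : M4) : Prop := m.1 = 1 ∧ inV4 m.2

instance decInV4m : DecidablePred inV4m := fun m => by unfold inV4m; infer_instance

/-- membership in `1 × A₄` -/
def inA4m (m : M4) : Prop := m.1 = 1 ∧ Perm.sign m.2 = 1

instance decInA4m : DecidablePred inA4m := fun m => by unfold inA4m; infer_instance

set_option maxRecDepth 100000 in
theorem inV4m_mul : ∀ a : M4, inV4m a → ∀ b : M4, inV4m b → inV4m (a * b) := by decide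

set_option maxRecDepth 100000 in
theorem inV4m_inv : ∀ a : M4, inV4m a → inV4m a⁻¹ := by decide

set_option maxRecDepth 100000 in
theorem inA4m_mul : ∀ a : M4, inA4m a → ∀ b : M4, inA4m b → inA4m (a * b) := by decide

set_option maxRecDepth 100000 in
theorem inA4m_inv : ∀ a : M4, inA4m a → inA4m a⁻¹ := by decide

/-- `1 × V₄` -/
def V4m : Subgroup M4 where
  carrier := {m | inV4m m}
  one_mem' := by decide
  mul_mem' := fun {a b} ha hb => inV4m_mul a ha b hb
  inv_mem' := fun {a} ha => inV4m_inv a ha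

/-- `1 × A₄` -/
def A4m : Subgroup M4 where
  carrier := {m | inA4m m}
  one_mem' := by decide
  mul_mem' := fun {a b} ha hb => inA4m_mul a ha b hb
  inv_mem' := fun {a} ha => inA4m_inv a ha

theorem mem_V4m {m : M4} : m ∈ V4m ↔ inV4m m := Iff.rfl
theorem mem_A4m {m : M4} : m ∈ A4m ↔ inA4m m := Iff.rfl

/-! ### cardinalities -/

set_option maxRecDepth 100000 in
theorem card_inV4m : Fintype.card {m : M4 // inV4m m} = 4 := by decide

set_option maxRecDepth 100000 in
theorem card_inA4m : Fintype.card {m : M4 // inA4m m} = 12 := by decide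

theorem card_V4m : Nat.card ↥V4m = 4 := by
  show Nat.card {m : M4 // inV4m m} = 4
  rw [Nat.card_eq_fintype_card]
  exact card_inV4m

theorem card_A4m : Nat.card ↥A4m = 12 := by
  show Nat.card {m : M4 // inA4m m} = 12
  rw [Nat.card_eq_fintype_card]
  exact card_inA4m

/-! ### commutators and the centre of the Sylow subgroup -/

set_option maxRecDepth 100000 in
theorem m_comm_Rm : ∀ a : M4, inD8 a.2 → ∀ b : M4, inD8 b.2 →
    a * b * a⁻¹ * b⁻¹ = 1 ∨ a * b * a⁻¹ * b⁻¹ = tm := by decide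

set_option maxRecDepth 100000 in
theorem m_comm_tm : ∃ a : M4, inD8 a.2 ∧ ∃ b : M4, inD8 b.2 ∧ a * b * a⁻¹ * b⁻¹ = tm := by decide

set_option maxRecDepth 100000 in
theorem m_center_Rm : ∀ m : M4, inD8 m.2 → (∀ r : M4, inD8 r.2 → m * r = r * m) →
    m = 1 ∨ m = cm ∨ m = tm ∨ m = tm * cm := by decide

set_option maxRecDepth 100000 in
theorem m_tm_central : ∀ r : M4, inD8 r.2 → tm * r = r * tm := by decide

set_option maxRecDepth 100000 in
theorem m_comm_ne_cm : ∀ x y : M4, x * y * x⁻¹ * y⁻¹ ≠ cm := by decide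

set_option maxRecDepth 100000 in
theorem m_tm_sq : tm * tm = 1 := by decide

set_option maxRecDepth 100000 in
theorem m_tm_ne : tm ≠ 1 ∧ tm ≠ cm ∧ tm * cm ≠ 1 ∧ tm * cm ≠ cm ∧ tm * cm ≠ tm := by decide

/-! ### the subgroup generated by the elements of order three -/

set_option maxRecDepth 100000 in
theorem m_A4m_iff : ∀ m : M4, inA4m m ↔ ∃ a b : M4, a ^ 3 = 1 ∧ b ^ 3 = 1 ∧ m = a * b := by decide

set_option maxRecDepth 100000 in
theorem m_A4m_inter_Rm : ∀ m : M4, inA4m m → inD8 m.2 → inV4m m := by decide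

set_option maxRecDepth 100000 in
theorem m_V4m_le : ∀ m : M4, inV4m m → inA4m m ∧ inD8 m.2 ∧ inV4 m.2 := by decide

set_option maxRecDepth 100000 in
theorem m_V4m_conj : ∀ w : M4, inV4m w → ∀ p : M4, inV4m (p * w * p⁻¹) := by decide

set_option maxRecDepth 100000 in
theorem m_V4m_conj_tm : ∀ w : M4, inV4m w → w ≠ 1 → ∃ p : M4, p * w * p⁻¹ = tm := by decide

set_option maxRecDepth 100000 in
theorem m_tm_V4m : inV4m tm ∧ ¬ inV4m cm := by decide

set_option maxRecDepth 100000 in
theorem m_E1m_split : ∀ m : M4, inV4 m.2 → inV4m m ∨ inV4m (cm * m) := by decide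

set_option maxRecDepth 100000 in
theorem m_A4m_conj : ∀ a : M4, inA4m a → ∀ p : M4, inA4m (p * a * p⁻¹) := by decide

/-! ### normal `2`-subgroups -/

set_option maxRecDepth 100000 in
theorem m_two_outside : ∀ n : M4, n ^ 4 = 1 → ¬ inV4 n.2 →
    ∃ d : M4, inA4m d ∧ (n⁻¹ * (d * n * d⁻¹)) ^ 3 = 1 ∧ n⁻¹ * (d * n * d⁻¹) ≠ 1 := by decide

set_option maxRecDepth 100000 in
theorem m_V4m_gen : ∀ n : M4, inV4 n.2 → n.2 ≠ 1 → ∀ w : M4, inV4m w →
    ∃ d₁ : M4, inA4m d₁ ∧ ∃ d₂ : M4, inA4m d₂ ∧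
      w = (n⁻¹ * (d₁ * n * d₁⁻¹)) * (n⁻¹ * (d₂ * n * d₂⁻¹)) := by decide

set_option maxRecDepth 100000 in
theorem m_snd_one : ∀ m : M4, m.2 = 1 → m = 1 ∨ m = cm := by decide

/-! ### centralisers of non-central involutions of the Sylow subgroup -/

instance decCentRm (t : M4) : Decidable (∀ r : M4, inD8 r.2 → t * r = r * t) := by
  infer_instance

instance decCentE1 (t : M4) : Decidable (∀ m : M4, inD8 m.2 → m * t = t * m → inV4 m.2) := by
  infer_instance

instance decCentE2 (t : M4) : Decidable (∀ m : M4, inD8 m.2 → m * t = t * m → inW4 m.2) := by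
  infer_instance

set_option maxRecDepth 100000 in
theorem m_cent_invol : ∀ t : M4, inD8 t.2 → t * t = 1 → ¬ (∀ r : M4, inD8 r.2 → t * r = r * t) →
    (∀ m : M4, inD8 m.2 → m * t = t * m → inV4 m.2) ∨
      (∀ m : M4, inD8 m.2 → m * t = t * m → inW4 m.2) := by decide

end Cfsg.Agent.Lib.Helper5.KSFin
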