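import Mathlib
import Cfsg.Prelude
import Cfsg.Agent.Lib.Helper5.KSEnd.Extract
import Cfsg.Agent.Lib.Helper5.KSFin.Model2

set_option autoImplicit false
set_option linter.unusedSectionVars false
set_option linter.unusedVariables false
set_option maxHeartbeats 1000000
open Cfsg Equiv

/-! Embeddings of the model groups `S₄` and `C₂ × S₄` onto a subgroup, adjusted so that a given Sylow
`2`-subgroup corresponds to the standard one. -/

namespace Cfsg.Agent.Lib.Helper5.KSFin

open Cfsg.Agent.Lib.Helper5.KSEnd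

variable {G : Type*} [Group G]

/-- an isomorphism of a subgroup `P` with a finite model group can be adjusted so that a given Sylow
`2`-subgroup of `P` corresponds to a given Sylow `2`-subgroup of the model -/
theorem exists_iso_sylow [Finite G] {M : Type*} [Group M] [Finite M] (Q : Subgroup M)
    (hQ2 : IsPGroup 2 ↥Q) (hQi : ¬ 2 ∣ Q.index) {P R : Subgroup G} (ψ : ↥P ≃* M)
    (hR : IsSylowTwoIn R P) :
    ∃ ψ' : ↥P ≃* M, ∀ p : ↥P, ψ' p ∈ Q ↔ (p : G) ∈ R := by
  haveI : Fact (Nat.Prime 2) := ⟨Nat.prime_two⟩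
  set R₀ : Subgroup M := (R.subgroupOf P).map ψ.toMonoidHom with hR₀
  have hR₀2 : IsPGroup 2 ↥R₀ := (hR.2.1.comap_subtype (K := P)).map ψ.toMonoidHom
  have hR₀i : ¬ 2 ∣ R₀.index := by
    have h1 : R₀.index = (R.subgroupOf P).index := Subgroup.index_map_equiv (R.subgroupOf P) ψ
    rw [h1]
    intro h2
    have h3 : Odd (R.relIndex P) := hR.2.2
    rw [Subgroup.relIndex] at h3
    exact (Nat.not_even_iff_odd.mpr h3) (even_iff_two_dvd.mpr h2)
  obtain ⟨g, hg⟩ := MulAction.exists_smul_eq M (hR₀2.toSylow hR₀i) (hQ2.toSylow hQi)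
  have hconj : ∀ m : M, m ∈ Q ↔ g⁻¹ * m * g ∈ R₀ := by
    intro m
    have h1 := congrArg (fun Q : Sylow 2 M => (Q : Subgroup M)) hg
    simp only [Sylow.smul_def, Sylow.pointwise_smul_def, IsPGroup.toSylow_coe] at h1
    rw [← h1, Subgroup.mem_pointwise_smul_iff_inv_smul_mem, MulAut.smul_def,
      MulAut.conj_inv_apply]
  refine ⟨ψ.trans (MulAut.conj g), ?_⟩
  intro p
  rw [hconj]
  have e : g⁻¹ * (ψ.trans (MulAut.conj g)) p * g = ψ p := by
    simp only [MulEquiv.trans_apply, MulAut.conj_apply]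
    group
  rw [e, hR₀]
  have : ψ p = ψ.toMonoidHom p := rfl
  rw [this, Subgroup.mem_map_iff_mem (f := ψ.toMonoidHom) ψ.injective, Subgroup.mem_subgroupOf]

/-- an embedding of `C₂ × S₄` onto `P` carrying the standard Sylow `2`-subgroup onto `T` -/
structure Emb (P T : Subgroup G) where
  ι : M4 →* G
  inj : Function.Injective ι
  range : ∀ g, g ∈ P ↔ ∃ m, ι m = g
  rm : ∀ m, ι m ∈ T ↔ inD8 m.2
  le : T ≤ P

/-- an embedding of `S₄` onto `P` carrying the standard Sylow `2`-subgroup onto `T` -/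
structure Emb4 (P T : Subgroup G) where
  ι : Perm (Fin 4) →* G
  inj : Function.Injective ι
  range : ∀ g, g ∈ P ↔ ∃ m, ι m = g
  rm : ∀ m, ι m ∈ T ↔ inD8 m
  le : T ≤ P

theorem rm_sylow : IsPGroup 2 ↥Rm ∧ ¬ 2 ∣ Rm.index := by
  have hM : Nat.card M4 = 48 := by
    rw [Nat.card_eq_fintype_card]; exact card_M4
  refine ⟨IsPGroup.of_card (n := 4) (by rw [card_Rm]; norm_num), ?_⟩
  have := Subgroup.card_mul_index Rm
  rw [card_Rm, hM] at this
  have h3 : Rm.index = 3 := by omega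
  rw [h3]; norm_num

set_option maxRecDepth 100000 in
theorem card_inD8 : Fintype.card {σ : Perm (Fin 4) // inD8 σ} = 8 := by decide

theorem card_D8s : Nat.card ↥D8s = 8 := by
  show Nat.card {σ : Perm (Fin 4) // inD8 σ} = 8
  rw [Nat.card_eq_fintype_card]
  exact card_inD8

theorem d8_sylow : IsPGroup 2 ↥D8s ∧ ¬ 2 ∣ D8s.index := by
  have hM : Nat.card (Perm (Fin 4)) = 24 := by
    rw [Nat.card_perm, Nat.card_fin]; decide
  refine ⟨IsPGroup.of_card (n := 3) (by rw [card_D8s]; norm_num), ?_⟩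
  have := Subgroup.card_mul_index D8s
  rw [card_D8s, hM] at this
  have h3 : D8s.index = 3 := by omega
  rw [h3]; norm_num

theorem exists_emb [Finite G] {P T : Subgroup G} (ψ : ↥P ≃* M4) (hT : IsSylowTwoIn T P) :
    Nonempty (Emb P T) := by
  obtain ⟨ψ', hψ'⟩ := exists_iso_sylow Rm rm_sylow.1 rm_sylow.2 ψ hT
  refine ⟨⟨embOf ψ', embOf_injective ψ', ?_, ?_, hT.1⟩⟩
  · intro g
    constructor
    · intro hg
      refine ⟨ψ' ⟨g, hg⟩, ?_⟩
      rw [embOf_apply, MulEquiv.symm_apply_apply]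
    · rintro ⟨m, rfl⟩
      rw [embOf_apply]
      exact (ψ'.symm m).2
  · intro m
    rw [embOf_apply, ← hψ', MulEquiv.apply_symm_apply]
    exact mem_Rm

theorem exists_emb4 [Finite G] {P T : Subgroup G} (ψ : ↥P ≃* Perm (Fin 4))
    (hT : IsSylowTwoIn T P) : Nonempty (Emb4 P T) := by
  obtain ⟨ψ', hψ'⟩ := exists_iso_sylow D8s d8_sylow.1 d8_sylow.2 ψ hT
  refine ⟨⟨embOf ψ', embOf_injective ψ', ?_, ?_, hT.1⟩⟩
  · intro g
    constructor
    · intro hg
      refine ⟨ψ' ⟨g, hg⟩, ?_⟩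
      rw [embOf_apply, MulEquiv.symm_apply_apply]
    · rintro ⟨m, rfl⟩
      rw [embOf_apply]
      exact (ψ'.symm m).2
  · intro m
    rw [embOf_apply, ← hψ', MulEquiv.apply_symm_apply]
    exact mem_D8s

end Cfsg.Agent.Lib.Helper5.KSFin
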