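import Mathlib
import Cfsg.Prelude
import Cfsg.Agent.Lib.Helper5.KSEnd.CaseC2S4

set_option autoImplicit false
set_option linter.unusedSectionVars false
set_option linter.unusedVariables false
set_option maxHeartbeats 1000000
open Cfsg Equiv

/-! General lemmas on `2`-locals, the subgroup generated by the elements of odd order, and small
subgroup constructions. -/

namespace Cfsg.Agent.Lib.Helper5.KSFin

open Cfsg.Agent.Lib.Helper5.KSEnd

variable {G : Type*} [Group G]

/-- a maximal `2`-local is the full normalizer of each of its nontrivial normal `2`-subgroups -/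
theorem normalizer_eq_of_max {P X : Subgroup G} (hP : IsMaximalTwoLocal P) (hX : IsPGroup 2 ↥X)
    (hne : X ≠ ⊥) (hle : P ≤ Subgroup.normalizer (X : Set G)) :
    Subgroup.normalizer (X : Set G) = P :=
  hP.2 _ ⟨X, hX, hne, rfl⟩ hle

/-- membership in a maximal `2`-local via a normal `2`-subgroup -/
theorem mem_of_max_of_normalizes [Finite G] {P X : Subgroup G} (hP : IsMaximalTwoLocal P)
    (hX : IsPGroup 2 ↥X) (hne : X ≠ ⊥) (hle : ∀ p ∈ P, ∀ a ∈ X, p * a * p⁻¹ ∈ X) {g : G}
    (hg : ∀ a ∈ X, g * a * g⁻¹ ∈ X) : g ∈ P := by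
  have h1 : P ≤ Subgroup.normalizer (X : Set G) := by
    intro p hp
    exact Subgroup.mem_normalizer_fintype (fun a ha => hle p hp a ha)
  rw [← normalizer_eq_of_max hP hX hne h1]
  exact Subgroup.mem_normalizer_fintype (fun a ha => hg a ha)

/-- the centralizer of a central involution of a maximal `2`-local -/
theorem mem_of_max_of_commute [Finite G] {P : Subgroup G} (hP : IsMaximalTwoLocal P) {c : G}
    (hc : c * c = 1) (hc1 : c ≠ 1) (hle : ∀ p ∈ P, p * c = c * p) {g : G} (hg : g * c = c * g) :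
    g ∈ P := by
  have key : ∀ q : G, q * c = c * q → ∀ a ∈ invSub c hc, q * a * q⁻¹ ∈ invSub c hc := by
    intro q hq a ha
    have ha' : a = 1 ∨ a = c := ha
    rcases ha' with rfl | rfl
    · have : q * 1 * q⁻¹ = 1 := by group
      rw [this]; exact Subgroup.one_mem _
    · have : q * a * q⁻¹ = a := by rw [hq]; group
      rw [this]; exact ha
  refine mem_of_max_of_normalizes hP (isPGroup_invSub c hc) ?_ (fun p hp => key p (hle p hp))
    (key g hg)
  intro h
  have : c ∈ (⊥ : Subgroup G) := by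
    rw [← h]
    exact Or.inr rfl
  exact hc1 (Subgroup.mem_bot.mp this)

/-- elements of cube `1` have odd order -/
theorem mem_oddClosure_of_cube {g : G} (hg : g ^ 3 = 1) :
    g ∈ Subgroup.closure {g : G | Odd (orderOf g)} := by
  apply Subgroup.subset_closure
  show Odd (orderOf g)
  have h1 : orderOf g ∣ 3 := orderOf_dvd_of_pow_eq_one hg
  have h3 : Nat.Prime 3 := by norm_num
  rcases (Nat.dvd_prime h3).mp h1 with h | h
  · rw [h]; exact odd_one
  · rw [h]; exact ⟨1, rfl⟩

/-- the subgroup generated by the elements of odd order lies in every normal subgroup of index `2` -/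
theorem oddClosure_le_of_index_two {M : Subgroup G} [M.Normal] (hM : M.index = 2) :
    Subgroup.closure {g : G | Odd (orderOf g)} ≤ M := by
  rw [Subgroup.closure_le]
  intro g hg
  have hg' : Odd (orderOf g) := hg
  obtain ⟨k, hk⟩ := hg'
  have hsq : g ^ 2 ∈ M := by
    have := Subgroup.pow_index_mem M g
    rwa [hM] at this
  have h1 : g = (g ^ 2) ^ (k + 1) := by
    rw [← pow_mul]
    have : 2 * (k + 1) = orderOf g + 1 := by omega
    rw [this, pow_succ, pow_orderOf_eq_one, one_mul]
  show g ∈ M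
  rw [h1]
  exact Subgroup.pow_mem _ hsq _

/-- transport of a maximal `2`-local to a subgroup -/
theorem maxTwoLocal_subgroupOf {H S W : Subgroup G} (hW2 : IsPGroup 2 ↥W) (hWne : W ≠ ⊥)
    (hWH : W ≤ H) (hSH : S ≤ H)
    (hN : ∀ g ∈ H, (g ∈ Subgroup.normalizer (W : Set G) ↔ g ∈ S))
    (hmax : ∀ X : Subgroup G, X ≤ H → IsPGroup 2 ↥X → X ≠ ⊥ →
      S ≤ Subgroup.normalizer (X : Set G) → ∀ g ∈ H, g ∈ Subgroup.normalizer (X : Set G) → g ∈ S) :
    IsMaximalTwoLocal (S.subgroupOf H) := by
  constructor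
  · refine ⟨W.subgroupOf H, hW2.comap_subtype, ?_, ?_⟩
    · intro h
      rw [Subgroup.subgroupOf_eq_bot, disjoint_iff, inf_of_le_left hWH] at h
      exact hWne h
    · rw [← Subgroup.subgroupOf_normalizer_eq hWH]
      ext h
      rw [Subgroup.mem_subgroupOf, Subgroup.mem_subgroupOf]
      exact (hN h h.2).symm
  · rintro N ⟨X', hX'2, hX'ne, rfl⟩ hle
    set X : Subgroup G := X'.map H.subtype with hX
    have hXH : X ≤ H := Subgroup.map_subtype_le X'
    have hX' : X.subgroupOf H = X' := by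
      rw [hX, Subgroup.subgroupOf]
      exact Subgroup.comap_map_eq_self_of_injective H.subtype_injective X'
    have hX2 : IsPGroup 2 ↥X := hX'2.map _
    have hXne : X ≠ ⊥ := by
      intro h
      apply hX'ne
      rw [← hX', h]
      exact Subgroup.bot_subgroupOf _
    rw [← hX', ← Subgroup.subgroupOf_normalizer_eq hXH] at hle ⊢
    have hSX : S ≤ Subgroup.normalizer (X : Set G) := by
      intro s hs
      have := hle (show (⟨s, hSH hs⟩ : ↥H) ∈ S.subgroupOf H from hs)
      exact this
    apply le_antisymm _ hle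
    intro h hh
    rw [Subgroup.mem_subgroupOf] at hh ⊢
    exact hmax X hXH hX2 hXne hSX h h.2 hh

/-- a `2`-group normalizing a nontrivial `2`-group centralizes one of its nontrivial elements -/
theorem exists_fixed_of_normalizes [Finite G] {W X : Subgroup G} (hW : IsPGroup 2 ↥W)
    (hX : IsPGroup 2 ↥X) (hne : X ≠ ⊥) (hn : ∀ w ∈ W, ∀ x ∈ X, w * x * w⁻¹ ∈ X) :
    ∃ f ∈ X, f ≠ 1 ∧ ∀ w ∈ W, w * f = f * w := by
  haveI : Fact (Nat.Prime 2) := ⟨Nat.prime_two⟩
  letI act : MulAction ↥W ↥X :=
    { smul := fun w x => ⟨w * x * w⁻¹, hn w w.2 x x.2⟩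
      one_smul := by
        intro x
        apply Subtype.ext
        show ((1 : ↥W) : G) * x * ((1 : ↥W) : G)⁻¹ = x
        simp
      mul_smul := by
        intro a b x
        apply Subtype.ext
        show ((a * b : ↥W) : G) * x * ((a * b : ↥W) : G)⁻¹ = a * (b * x * (b : G)⁻¹) * (a : G)⁻¹
        simp only [Subgroup.coe_mul]
        group }
  have hsm : ∀ (w : ↥W) (x : ↥X), ((w • x : ↥X) : G) = w * x * (w : G)⁻¹ := fun w x => rfl
  have hXn : Nontrivial ↥X := by
    rw [Subgroup.nontrivial_iff_ne_bot]; exact hne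
  obtain ⟨n, hn0, hcard⟩ := (hX.nontrivial_iff_card).mp hXn
  have hdvd : 2 ∣ Nat.card ↥X := by
    rw [hcard]; exact dvd_pow_self 2 (ne_of_gt hn0)
  have h1 : (1 : ↥X) ∈ MulAction.fixedPoints ↥W ↥X := by
    intro w
    apply Subtype.ext
    rw [hsm]
    simp
  obtain ⟨b, hb, hb1⟩ := hW.exists_fixed_point_of_prime_dvd_card_of_fixed_point ↥X hdvd h1
  refine ⟨b, b.2, ?_, ?_⟩
  · intro h
    apply hb1
    apply Subtype.ext
    rw [h]; rfl
  · intro w hw
    have := congrArg Subtype.val (hb ⟨w, hw⟩)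
    rw [hsm] at this
    have h2 : w * (b : G) * w⁻¹ = b := this
    calc w * (b : G) = (w * b * w⁻¹) * w := by group
      _ = b * w := by rw [h2]

/-- adjoining an element with square in `N` that normalizes `N` -/
def adjoin (N : Subgroup G) (s : G) (hs : s * s ∈ N) (hn : ∀ v, s * v * s⁻¹ ∈ N ↔ v ∈ N) :
    Subgroup G where
  carrier := {a | a ∈ N ∨ s⁻¹ * a ∈ N}
  mul_mem' := by
    intro a b ha hb
    have hn' : ∀ v ∈ N, s⁻¹ * v * s ∈ N := by
      intro v hv
      rw [← hn]
      have : s * (s⁻¹ * v * s) * s⁻¹ = v := by group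
      rw [this]; exact hv
    rcases ha with ha | ha <;> rcases hb with hb | hb
    · exact Or.inl (N.mul_mem ha hb)
    · right
      have : s⁻¹ * (a * b) = (s⁻¹ * a * s) * (s⁻¹ * b) := by group
      rw [this]
      exact N.mul_mem (hn' a ha) hb
    · right
      have : s⁻¹ * (a * b) = (s⁻¹ * a) * b := by group
      rw [this]
      exact N.mul_mem ha hb
    · left
      have : a * b = (s * (s⁻¹ * a) * s⁻¹) * (s * s) * (s⁻¹ * b) := by group
      rw [this]
      exact N.mul_mem (N.mul_mem ((hn _).mpr ha) hs) hb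
  one_mem' := Or.inl N.one_mem
  inv_mem' := by
    intro a ha
    have hn' : ∀ v ∈ N, s⁻¹ * v * s ∈ N := by
      intro v hv
      rw [← hn]
      have : s * (s⁻¹ * v * s) * s⁻¹ = v := by group
      rw [this]; exact hv
    rcases ha with ha | ha
    · exact Or.inl (N.inv_mem ha)
    · right
      have : s⁻¹ * a⁻¹ = (s⁻¹ * (s⁻¹ * a)⁻¹ * s) * (s * s)⁻¹ := by group
      rw [this]
      exact N.mul_mem (hn' _ (N.inv_mem ha)) (N.inv_mem hs)

theorem mem_adjoin {N : Subgroup G} {s : G} {hs : s * s ∈ N}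
    {hn : ∀ v, s * v * s⁻¹ ∈ N ↔ v ∈ N} {a : G} :
    a ∈ adjoin N s hs hn ↔ a ∈ N ∨ s⁻¹ * a ∈ N := Iff.rfl

/-- a subgroup all of whose elements lie in a list of two has order at most `2` -/
theorem card_le_two_of_forall [Finite G] {B : Subgroup G} {a b : G}
    (h : ∀ x ∈ B, x = a ∨ x = b) : Nat.card ↥B ≤ 2 := by
  classical
  have hsub : (B : Set G) ⊆ (({a, b} : Finset G) : Set G) := by
    intro x hx
    rcases h x hx with rfl | rfl <;> simp
  have h1 : Nat.card ↥B = Nat.card ↥(B : Set G) := rfl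
  rw [h1]
  calc Nat.card ↥(B : Set G) ≤ Nat.card ↥((({a, b} : Finset G)) : Set G) :=
        Nat.card_mono (Finset.finite_toSet _) hsub
    _ = ({a, b} : Finset G).card := by
        rw [Nat.card_eq_fintype_card]; simp
    _ ≤ 2 := Finset.card_le_two

/-- a subgroup all of whose elements lie in a list of four has order at most `4` -/
theorem card_le_four_of_forall [Finite G] {B : Subgroup G} {a b c d : G}
    (h : ∀ x ∈ B, x = a ∨ x = b ∨ x = c ∨ x = d) : Nat.card ↥B ≤ 4 := by
  classical
  have hsub : (B : Set G) ⊆ (({a, b, c, d} : Finset G) : Set G) := by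
    intro x hx
    rcases h x hx with rfl | rfl | rfl | rfl <;> simp
  have h1 : Nat.card ↥B = Nat.card ↥(B : Set G) := rfl
  rw [h1]
  calc Nat.card ↥(B : Set G) ≤ Nat.card ↥((({a, b, c, d} : Finset G)) : Set G) :=
        Nat.card_mono (Finset.finite_toSet _) hsub
    _ = ({a, b, c, d} : Finset G).card := by
        rw [Nat.card_eq_fintype_card]; simp
    _ ≤ 4 := Finset.card_le_four

end Cfsg.Agent.Lib.Helper5.KSFin
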