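import Mathlib
import Cfsg.Prelude
import Cfsg.Agent.Lib.Helper5.KSFin.Model2

set_option autoImplicit false
set_option linter.unusedSectionVars false
set_option linter.unusedVariables false
set_option maxHeartbeats 1000000
open Cfsg Equiv

/-! The twist automorphism of `C₂ × S₄`, the subgroups `1 × W₄` and `1 × D₈`, and more facts by
enumeration. -/

namespace Cfsg.Agent.Lib.Helper5.KSFin

open Cfsg.Agent.Lib.Helper5.KSEnd

/-- the sign with values in the multiplicative group of `ZMod 2` -/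
def sgm (σ : Perm (Fin 4)) : Multiplicative (ZMod 2) :=
  if Perm.sign σ = 1 then 1 else Multiplicative.ofAdd 1

set_option maxRecDepth 100000 in
theorem sgm_mul : ∀ a b : Perm (Fin 4), sgm (a * b) = sgm a * sgm b := by decide

set_option maxRecDepth 100000 in
theorem sgm_one : sgm 1 = 1 := by decide

/-- the automorphism `(e, σ) ↦ (e sgn σ, σ)` -/
def twist : M4 →* M4 where
  toFun m := (m.1 * sgm m.2, m.2)
  map_one' := by
    show ((1 : Multiplicative (ZMod 2)) * sgm 1, (1 : Perm (Fin 4))) = 1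
    rw [sgm_one, one_mul]; rfl
  map_mul' := by
    intro a b
    show ((a.1 * b.1) * sgm (a.2 * b.2), a.2 * b.2) = (a.1 * sgm a.2, a.2) * (b.1 * sgm b.2, b.2)
    rw [sgm_mul]
    apply Prod.ext
    · show a.1 * b.1 * (sgm a.2 * sgm b.2) = a.1 * sgm a.2 * (b.1 * sgm b.2)
      rw [mul_mul_mul_comm]
    · rfl

theorem twist_apply (m : M4) : twist m = (m.1 * sgm m.2, m.2) := rfl

theorem twist_snd (m : M4) : (twist m).2 = m.2 := rfl

set_option maxRecDepth 100000 in
theorem twist_twist : ∀ m : M4, twist (twist m) = m := by decide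

theorem twist_injective : Function.Injective twist := by
  intro a b h
  rw [← twist_twist a, ← twist_twist b, h]

/-- membership in `1 × W₄` -/
def inW4m (m : M4) : Prop := m.1 = 1 ∧ inW4 m.2

instance decInW4m : DecidablePred inW4m := fun m => by unfold inW4m; infer_instance

/-- membership in `1 × D₈` -/
def inD8m (m : M4) : Prop := m.1 = 1 ∧ inD8 m.2

instance decInD8m : DecidablePred inD8m := fun m => by unfold inD8m; infer_instance

set_option maxRecDepth 100000 in
theorem inW4m_mul : ∀ a : M4, inW4m a → ∀ b : M4, inW4m b → inW4m (a * b) := by decide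

set_option maxRecDepth 100000 in
theorem inW4m_inv : ∀ a : M4, inW4m a → inW4m a⁻¹ := by decide

set_option maxRecDepth 100000 in
theorem inD8m_mul : ∀ a : M4, inD8m a → ∀ b : M4, inD8m b → inD8m (a * b) := by decide

set_option maxRecDepth 100000 in
theorem inD8m_inv : ∀ a : M4, inD8m a → inD8m a⁻¹ := by decide

/-- `1 × W₄` -/
def W4m : Subgroup M4 where
  carrier := {m | inW4m m}
  mul_mem' := fun {a b} ha hb => inW4m_mul a ha b hb
  one_mem' := by show inW4m 1; decide
  inv_mem' := fun {a} ha => inW4m_inv a ha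

/-- `1 × D₈` -/
def D8m : Subgroup M4 where
  carrier := {m | inD8m m}
  mul_mem' := fun {a b} ha hb => inD8m_mul a ha b hb
  one_mem' := by show inD8m 1; decide
  inv_mem' := fun {a} ha => inD8m_inv a ha

theorem mem_W4m {m : M4} : m ∈ W4m ↔ inW4m m := Iff.rfl
theorem mem_D8m {m : M4} : m ∈ D8m ↔ inD8m m := Iff.rfl

set_option maxRecDepth 100000 in
theorem card_inW4m' : Fintype.card {m : M4 // inW4m m} = 4 := by decide

set_option maxRecDepth 100000 in
theorem card_inD8m' : Fintype.card {m : M4 // inD8m m} = 8 := by decide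

theorem card_W4m : Nat.card ↥W4m = 4 := by
  show Nat.card {m : M4 // inW4m m} = 4
  rw [Nat.card_eq_fintype_card]
  exact card_inW4m'

theorem card_D8m : Nat.card ↥D8m = 8 := by
  show Nat.card {m : M4 // inD8m m} = 8
  rw [Nat.card_eq_fintype_card]
  exact card_inD8m'

/-- a fixed element of `1 × V₄` outside the centre of the Sylow subgroup -/
def vm : M4 := (1, swap 0 1 * swap 2 3)

set_option maxRecDepth 100000 in
theorem m_vm : inV4m vm ∧ ¬ inW4 vm.2 ∧ vm * vm = 1 ∧ vm ≠ 1 ∧ vm ≠ tm := by decide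

set_option maxRecDepth 100000 in
theorem m_V4_D8 : ∀ m : M4, inV4 m.2 → inD8 m.2 := by decide

set_option maxRecDepth 100000 in
theorem m_W4m_or_twist : ∀ m : M4, inW4 m.2 → ¬ inV4 m.2 → inW4m m ∨ inW4m (twist m) := by decide

set_option maxRecDepth 100000 in
theorem m_V4m_list : ∀ m : M4, inV4m m ↔ (m = 1 ∨ m = tm ∨ m = vm ∨ m = tm * vm) := by decide

set_option maxRecDepth 100000 in
theorem m_W4m_list : ∀ u : M4, inW4m u → ¬ inV4 u.2 →
    ∀ m : M4, inW4m m ↔ (m = 1 ∨ m = tm ∨ m = u ∨ m = tm * u) := by decide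

set_option maxRecDepth 100000 in
theorem m_vm_noncentral : ¬ (∀ r : M4, inD8 r.2 → vm * r = r * vm) := by decide

set_option maxRecDepth 100000 in
theorem m_W4m_le : ∀ m : M4, inW4m m → inD8m m ∧ inW4 m.2 := by decide

set_option maxRecDepth 100000 in
theorem m_V4m_D8m : ∀ m : M4, inV4m m → inD8m m := by decide

set_option maxRecDepth 100000 in
theorem m_D8m_le : ∀ m : M4, inD8m m → inD8 m.2 := by decide

set_option maxRecDepth 100000 in
theorem m_D8m_invol : ∀ m : M4, inD8m m → m * m = 1 → inV4m m ∨ inW4m m := by decide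

set_option maxRecDepth 100000 in
theorem m_cm_D8m : ¬ inD8m cm := by decide

set_option maxRecDepth 100000 in
theorem m_Rm_split : ∀ m : M4, inD8 m.2 → inD8m m ∨ inD8m (cm * m) := by decide

set_option maxRecDepth 100000 in
theorem m_D8m_prod : ∀ m : M4, inD8m m → ∃ u : M4, inV4m u ∧ ∃ v : M4, inW4m v ∧ m = u * v := by
  decide

set_option maxRecDepth 100000 in
theorem m_rel : ∀ u : M4, inW4m u → ¬ inV4 u.2 → u * vm = tm * (vm * u) ∧ u * u = 1 := by decide

instance decD8list (u d : M4) : Decidable (d = 1 ∨ d = tm ∨ d = vm ∨ d = tm * vm ∨ d = u ∨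
    d = tm * u ∨ d = vm * u ∨ d = tm * (vm * u)) := by
  infer_instance

instance decD8list' (u : M4) : Decidable (∀ d : M4, inD8m d → d = 1 ∨ d = tm ∨ d = vm ∨
    d = tm * vm ∨ d = u ∨ d = tm * u ∨ d = vm * u ∨ d = tm * (vm * u)) := by
  infer_instance

set_option maxRecDepth 100000 in
theorem m_D8m_list : ∀ u : M4, inW4m u → ¬ inV4 u.2 → ∀ d : M4, inD8m d →
    d = 1 ∨ d = tm ∨ d = vm ∨ d = tm * vm ∨ d = u ∨ d = tm * u ∨ d = vm * u ∨ d = tm * (vm * u) := by
  decide

set_option maxRecDepth 100000 in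
theorem m_pow : ∀ m : M4, m ^ 16 = 1 → m ^ 4 = 1 := by decide

set_option maxRecDepth 100000 in
theorem m_fst_one : ∀ u : M4, inW4m u → ¬ inV4 u.2 → ∀ m : M4, m.1 = 1 →
    inA4m m ∨ inA4m (u⁻¹ * m) := by decide

set_option maxRecDepth 100000 in
theorem m_fst_ne : ∀ m : M4, m.1 ≠ 1 → (cm * m).1 = 1 := by decide

set_option maxRecDepth 100000 in
theorem m_W4m_exists : ∃ u : M4, inW4m u ∧ ¬ inV4 u.2 := by decide

set_option maxRecDepth 100000 in
theorem m_E2m_split : ∀ m : M4, inW4 m.2 → inW4m m ∨ inW4m (cm * m) := by decide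

set_option maxRecDepth 100000 in
theorem m_tm_W4m : inW4m tm ∧ ¬ inW4m cm ∧ ¬ inW4m (tm * cm) := by decide

set_option maxRecDepth 100000 in
theorem m_vm_ne : vm ≠ 1 ∧ vm ≠ cm ∧ vm ≠ tm ∧ vm ≠ tm * cm := by decide

set_option maxRecDepth 100000 in
theorem m_tm_inv : tm⁻¹ = tm := by decide

set_option maxRecDepth 100000 in
theorem m_V4m_E1m : ∀ m : M4, inV4m m → inV4 m.2 := by decide

set_option maxRecDepth 100000 in
theorem m_tmcm_E2m : inW4 (tm * cm).2 ∧ inV4 (tm * cm).2 ∧ inD8 (tm * cm).2 := by decide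

set_option maxRecDepth 100000 in
theorem m_W4m_E2m : ∀ m : M4, inW4m m → inW4 m.2 := by decide

set_option maxRecDepth 100000 in
theorem m_W4m_D8m : ∀ m : M4, inW4m m → inD8m m := by decide

set_option maxRecDepth 100000 in
theorem m_W4m_V4 : ∀ m : M4, inW4m m → inV4 m.2 → m = 1 ∨ m = tm := by decide

instance decD8pows (u d : M4) : Decidable (∃ i j k : Fin 2,
    d = tm ^ (i : ℕ) * vm ^ (j : ℕ) * u ^ (k : ℕ)) := by
  infer_instance

instance decD8pows' (u : M4) : Decidable (∀ d : M4, inD8m d → ∃ i j k : Fin 2,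
    d = tm ^ (i : ℕ) * vm ^ (j : ℕ) * u ^ (k : ℕ)) := by
  infer_instance

set_option maxRecDepth 100000 in
theorem m_D8m_pows : ∀ u : M4, inW4m u → ¬ inV4 u.2 → ∀ d : M4, inD8m d →
    ∃ i j k : Fin 2, d = tm ^ (i : ℕ) * vm ^ (j : ℕ) * u ^ (k : ℕ) := by decide

set_option maxRecDepth 100000 in
theorem m_6b : ∀ u : M4, inW4m u → ¬ inV4 u.2 → ∀ i j k : Fin 2,
    tm * cm * (tm ^ (i : ℕ) * u ^ (j : ℕ) *
      ((cm * (tm ^ (i : ℕ) * vm ^ (j : ℕ) * u ^ (k : ℕ))) * vm *
        (cm * (tm ^ (i : ℕ) * vm ^ (j : ℕ) * u ^ (k : ℕ)))⁻¹) ^ (k : ℕ)) ≠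
      cm * (tm ^ (i : ℕ) * vm ^ (j : ℕ) * u ^ (k : ℕ)) := by decide

set_option maxRecDepth 100000 in
theorem m_6c : ∀ u : M4, inW4m u → ¬ inV4 u.2 → ∀ i j k : Fin 2,
    cm * (tm ^ (i : ℕ) * u ^ (j : ℕ) * vm ^ (k : ℕ)) * (tm * cm) *
      (tm ^ (i : ℕ) * vm ^ (j : ℕ) * u ^ (k : ℕ)) ≠ 1 := by decide

set_option maxRecDepth 100000 in
theorem m_exp : ∀ m : M4, m ^ 12 = 1 := by decide

set_option maxRecDepth 100000 in
theorem m_cm_cm_mul : ∀ m : M4, cm * (cm * m) = m := by decide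

set_option maxRecDepth 100000 in
theorem m_fst_eq : ∀ m : M4, m.1 = 1 → m = (1, m.2) := by decide

set_option maxRecDepth 100000 in
theorem m_cent_tmcm : ∀ p : M4, p * (tm * cm) = (tm * cm) * p → inD8 p.2 := by decide

/-! ### facts on `S₄` -/

set_option maxRecDepth 100000 in
theorem s_V4_prod : ∀ σ : Perm (Fin 4), inV4 σ →
    ∃ a b : Perm (Fin 4), a ^ 3 = 1 ∧ b ^ 3 = 1 ∧ σ = a * b := by decide

set_option maxRecDepth 100000 in
theorem s_decomp : ∀ σ : Perm (Fin 4), ∃ a b t : Perm (Fin 4),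
    a ^ 3 = 1 ∧ b ^ 3 = 1 ∧ inD8 t ∧ σ = a * b * t := by decide

set_option maxRecDepth 100000 in
theorem s_V4_D8 : ∀ σ : Perm (Fin 4), inV4 σ → inD8 σ := by decide

end Cfsg.Agent.Lib.Helper5.KSFin
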