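import Mathlib
import Cfsg.Prelude
import Cfsg.Agent.Lib.Helper5.KSFin.Emb
import Cfsg.Agent.Lib.Helper5.KSFin.Model3
import Cfsg.Agent.Lib.Helper5.KSFin.Local

set_option autoImplicit false
set_option linter.unusedSectionVars false
set_option linter.unusedVariables false
set_option maxHeartbeats 1000000
open Cfsg Equiv

/-! The endgame in the case `P₁ ≅ P₂ ≅ S₄`. -/

namespace Cfsg.Agent.Lib.Helper5.KSFin

open Cfsg.Agent.Lib.Helper5.KSEnd

variable {G : Type*} [Group G] [Finite G] {T P₁ P₂ : Subgroup G}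

namespace Emb4

variable {P : Subgroup G} (e : Emb4 P T)

theorem mem_P (m : Perm (Fin 4)) : e.ι m ∈ P := (e.range _).mpr ⟨m, rfl⟩

theorem exists_of_mem_P {g : G} (hg : g ∈ P) : ∃ m, e.ι m = g := (e.range g).mp hg

theorem eq_iff {a b : Perm (Fin 4)} : e.ι a = e.ι b ↔ a = b := e.inj.eq_iff

theorem eq_one_iff {a : Perm (Fin 4)} : e.ι a = 1 ↔ a = 1 := by
  rw [← e.eq_iff, map_one]

theorem mem_map_iff {X : Subgroup (Perm (Fin 4))} {m : Perm (Fin 4)} :
    e.ι m ∈ X.map e.ι ↔ m ∈ X :=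
  Subgroup.mem_map_iff_mem e.inj

theorem card_W : Nat.card ↥(V4s.map e.ι) = 4 := by
  rw [Subgroup.card_map_of_injective e.inj, card_V4s]

theorem isPGroup_W : IsPGroup 2 ↥(V4s.map e.ι) := by
  haveI : Fact (Nat.Prime 2) := ⟨Nat.prime_two⟩
  apply IsPGroup.of_card (n := 2)
  rw [e.card_W]; norm_num

theorem W_ne_bot : V4s.map e.ι ≠ ⊥ := by
  intro h
  have := e.card_W
  rw [h, Subgroup.card_bot] at this
  omega

theorem W_normal {p a : G} (hp : p ∈ P) (ha : a ∈ V4s.map e.ι) :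
    p * a * p⁻¹ ∈ V4s.map e.ι := by
  obtain ⟨a, ha, rfl⟩ := ha
  obtain ⟨m, rfl⟩ := e.exists_of_mem_P hp
  rw [← map_mul, ← map_inv, ← map_mul, e.mem_map_iff]
  exact inV4_conj a ha m

theorem norm_W (hP : IsMaximalTwoLocal P) {g : G}
    (hg : ∀ a ∈ V4s.map e.ι, g * a * g⁻¹ ∈ V4s.map e.ι) : g ∈ P :=
  mem_of_max_of_normalizes hP e.isPGroup_W e.W_ne_bot (fun p hp a ha => e.W_normal hp ha) hg

theorem W_le_T : V4s.map e.ι ≤ T := by
  rintro _ ⟨m, hm, rfl⟩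
  exact (e.rm m).mpr (s_V4_D8 m hm)

theorem W_le_H : V4s.map e.ι ≤ Subgroup.closure {g : G | Odd (orderOf g)} := by
  rintro _ ⟨m, hm, rfl⟩
  obtain ⟨a, b, ha, hb, rfl⟩ := s_V4_prod m hm
  rw [map_mul]
  apply Subgroup.mul_mem
  · apply mem_oddClosure_of_cube
    rw [← map_pow, ha, map_one]
  · apply mem_oddClosure_of_cube
    rw [← map_pow, hb, map_one]

theorem card_T (e : Emb4 P T) : Nat.card ↥T = 8 := by
  have h : T = D8s.map e.ι := by
    ext t
    constructor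
    · intro ht
      obtain ⟨m, rfl⟩ := e.exists_of_mem_P (e.le ht)
      exact ⟨m, (e.rm m).mp ht, rfl⟩
    · rintro ⟨m, hm, rfl⟩
      exact (e.rm m).mpr hm
  rw [h, Subgroup.card_map_of_injective e.inj, card_D8s]

theorem card_P (e : Emb4 P T) : Nat.card ↥P = 24 := by
  have h : P = (⊤ : Subgroup (Perm (Fin 4))).map e.ι := by
    ext g
    constructor
    · intro hg
      obtain ⟨m, rfl⟩ := e.exists_of_mem_P hg
      exact ⟨m, Subgroup.mem_top _, rfl⟩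
    · rintro ⟨m, -, rfl⟩
      exact e.mem_P m
  rw [h, Subgroup.card_map_of_injective e.inj, Subgroup.card_top, Nat.card_perm, Nat.card_fin]
  decide

/-- `P ≤ O²(G)` once `T ≤ O²(G)` -/
theorem P_le_H (e : Emb4 P T) (hTH : T ≤ Subgroup.closure {g : G | Odd (orderOf g)}) :
    P ≤ Subgroup.closure {g : G | Odd (orderOf g)} := by
  intro p hp
  obtain ⟨m, rfl⟩ := e.exists_of_mem_P hp
  obtain ⟨a, b, t, ha, hb, ht, rfl⟩ := s_decomp m
  rw [map_mul, map_mul]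
  apply Subgroup.mul_mem
  · apply Subgroup.mul_mem
    · apply mem_oddClosure_of_cube
      rw [← map_pow, ha, map_one]
    · apply mem_oddClosure_of_cube
      rw [← map_pow, hb, map_one]
  · exact hTH ((e.rm t).mpr ht)

end Emb4

theorem endgame_A (hne : P₁ ≠ P₂) (h₁ : IsMaximalTwoLocal P₁) (h₂ : IsMaximalTwoLocal P₂)
    (hT₁ : IsSylowTwoIn T P₁) (hT₂ : IsSylowTwoIn T P₂) (ψ₁ : ↥P₁ ≃* Perm (Fin 4))
    (ψ₂ : ↥P₂ ≃* Perm (Fin 4))
    (H : Subgroup G) (hH : H = Subgroup.closure {g : G | Odd (orderOf g)}) :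
    ∃ M₁ M₂ : Subgroup ↥H, M₁ ≠ M₂ ∧ IsMaximalTwoLocal M₁ ∧ IsMaximalTwoLocal M₂ ∧
      Nonempty (↥M₁ ≃* Perm (Fin 4)) ∧ Nonempty (↥M₂ ≃* Perm (Fin 4)) ∧
        Nat.card ↥(M₁ ⊓ M₂) = 8 := by
  obtain ⟨e₁⟩ := exists_emb4 ψ₁ hT₁
  obtain ⟨e₂⟩ := exists_emb4 ψ₂ hT₂
  -- the two four-groups differ
  have hWne : V4s.map e₁.ι ≠ V4s.map e₂.ι := by
    intro h
    apply hne
    apply le_antisymm
    · intro p hp
      apply e₂.norm_W h₂
      rw [← h]
      exact fun a ha => e₁.W_normal hp ha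
    · intro p hp
      apply e₁.norm_W h₁
      rw [h]
      exact fun a ha => e₂.W_normal hp ha
  -- they generate `T`
  have hsup : V4s.map e₁.ι ⊔ V4s.map e₂.ι = T := by
    apply Subgroup.eq_of_le_of_card_ge (sup_le e₁.W_le_T e₂.W_le_T)
    rw [e₁.card_T]
    have h4 : 4 ∣ Nat.card ↥(V4s.map e₁.ι ⊔ V4s.map e₂.ι) := by
      have := Subgroup.card_dvd_of_le (le_sup_left : V4s.map e₁.ι ≤ V4s.map e₁.ι ⊔ V4s.map e₂.ι)
      rwa [e₁.card_W] at this
    have h8 : Nat.card ↥(V4s.map e₁.ι ⊔ V4s.map e₂.ι) ∣ 8 := by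
      rw [← e₁.card_T]
      exact Subgroup.card_dvd_of_le (sup_le e₁.W_le_T e₂.W_le_T)
    have hne4 : Nat.card ↥(V4s.map e₁.ι ⊔ V4s.map e₂.ι) ≠ 4 := by
      intro h
      apply hWne
      have h1 : V4s.map e₁.ι = V4s.map e₁.ι ⊔ V4s.map e₂.ι :=
        Subgroup.eq_of_le_of_card_ge le_sup_left (by rw [h, e₁.card_W])
      have h2 : V4s.map e₂.ι = V4s.map e₁.ι ⊔ V4s.map e₂.ι :=
        Subgroup.eq_of_le_of_card_ge le_sup_right (by rw [h, e₂.card_W])
      rw [h2, ← h1]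
    have hpos : 0 < Nat.card ↥(V4s.map e₁.ι ⊔ V4s.map e₂.ι) := Nat.card_pos
    obtain ⟨k, hk⟩ := h4
    obtain ⟨l, hl⟩ := h8
    rw [hk] at hl hne4 hpos ⊢
    have : k = 1 ∨ k = 2 := by
      have hk2 : k * l = 2 := by
        have : 4 * (k * l) = 4 * 2 := by rw [← mul_assoc]; omega
        omega
      have : k ∣ 2 := ⟨l, hk2.symm⟩
      have := (Nat.dvd_prime Nat.prime_two).mp this
      exact this
    rcases this with rfl | rfl
    · exact absurd rfl hne4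
    · norm_num
  have hTH : T ≤ Subgroup.closure {g : G | Odd (orderOf g)} := by
    rw [← hsup]
    exact sup_le e₁.W_le_H e₂.W_le_H
  have hP₁H : P₁ ≤ H := by rw [hH]; exact e₁.P_le_H hTH
  have hP₂H : P₂ ≤ H := by rw [hH]; exact e₂.P_le_H hTH
  -- maximal `2`-locals of `H`
  have hmaxloc : ∀ {P : Subgroup G} (e : Emb4 P T), IsMaximalTwoLocal P → P ≤ H →
      IsMaximalTwoLocal (P.subgroupOf H) := by
    intro P e hP hPH
    apply maxTwoLocal_subgroupOf (W := V4s.map e.ι) e.isPGroup_W e.W_ne_bot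
    · rw [hH]; exact e.W_le_H
    · exact hPH
    · intro g hg
      constructor
      · intro h
        apply e.norm_W hP
        intro a ha
        exact (Subgroup.mem_normalizer_iff.mp h a).mp ha
      · intro hgP
        exact Subgroup.mem_normalizer_fintype (fun a ha => e.W_normal hgP ha)
    · intro X hXH hX2 hXne hPX g hg hgn
      rw [hP.2 _ ⟨X, hX2, hXne, rfl⟩ hPX] at hgn
      exact hgn
  -- the intersection
  have hcard : Nat.card ↥(P₁ ⊓ P₂ : Subgroup G) = 8 := by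
    have h8 : 8 ∣ Nat.card ↥(P₁ ⊓ P₂ : Subgroup G) := by
      rw [← e₁.card_T]
      exact Subgroup.card_dvd_of_le (le_inf e₁.le e₂.le)
    have h24 : Nat.card ↥(P₁ ⊓ P₂ : Subgroup G) ∣ 24 := by
      rw [← e₁.card_P]
      exact Subgroup.card_dvd_of_le inf_le_left
    have hne24 : Nat.card ↥(P₁ ⊓ P₂ : Subgroup G) ≠ 24 := by
      intro h
      apply hne
      have h1 : P₁ ⊓ P₂ = P₁ :=
        Subgroup.eq_of_le_of_card_ge inf_le_left (by rw [h, e₁.card_P])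
      have h2 : P₁ ⊓ P₂ = P₂ :=
        Subgroup.eq_of_le_of_card_ge inf_le_right (by rw [h, e₂.card_P])
      rw [← h1, h2]
    obtain ⟨k, hk⟩ := h8
    obtain ⟨l, hl⟩ := h24
    rw [hk] at hl hne24 ⊢
    have hk3 : k * l = 3 := by
      have : 8 * (k * l) = 8 * 3 := by rw [← mul_assoc]; omega
      omega
    have : k ∣ 3 := ⟨l, hk3.symm⟩
    rcases (Nat.dvd_prime (by norm_num : Nat.Prime 3)).mp this with rfl | rfl
    · rfl
    · exact absurd rfl hne24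
  refine ⟨P₁.subgroupOf H, P₂.subgroupOf H, ?_, hmaxloc e₁ h₁ hP₁H, hmaxloc e₂ h₂ hP₂H,
    ⟨(Subgroup.subgroupOfEquivOfLe hP₁H).trans ψ₁⟩, ⟨(Subgroup.subgroupOfEquivOfLe hP₂H).trans ψ₂⟩,
    ?_⟩
  · intro h
    apply hne
    rw [Subgroup.subgroupOf_inj, inf_of_le_left hP₁H, inf_of_le_left hP₂H] at h
    exact h
  · have h1 : (P₁.subgroupOf H) ⊓ (P₂.subgroupOf H) = (P₁ ⊓ P₂).subgroupOf H := by
      ext g
      simp only [Subgroup.mem_inf, Subgroup.mem_subgroupOf]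
    rw [h1, Nat.card_congr (Subgroup.subgroupOfEquivOfLe
      ((inf_le_left.trans hP₁H) : P₁ ⊓ P₂ ≤ H)).toEquiv, hcard]

end Cfsg.Agent.Lib.Helper5.KSFin
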