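import Mathlib
import Cfsg.Prelude
import Cfsg.Agent.Lib.Helper5.KSFin.Emb
import Cfsg.Agent.Lib.Helper5.KSFin.Model3
import Cfsg.Agent.Lib.Helper5.KSFin.Local

set_option autoImplicit false
set_option linter.unusedSectionVars false
set_option linter.unusedVariables false
set_option maxHeartbeats 1000000
open Cfsg Equiv

/-! Consequences of one embedding `C₂ × S₄ ≅ P` onto a maximal `2`-local `P` with Sylow
`2`-subgroup `T`. -/

namespace Cfsg.Agent.Lib.Helper5.KSFin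

open Cfsg.Agent.Lib.Helper5.KSEnd

variable {G : Type*} [Group G] [Finite G] {P T : Subgroup G}

namespace Emb

variable (e : Emb P T)

theorem mem_P (m : M4) : e.ι m ∈ P := (e.range _).mpr ⟨m, rfl⟩

theorem exists_of_mem_P {g : G} (hg : g ∈ P) : ∃ m, e.ι m = g := (e.range g).mp hg

theorem exists_of_mem_T {t : G} (ht : t ∈ T) : ∃ m, inD8 m.2 ∧ e.ι m = t := by
  obtain ⟨m, rfl⟩ := e.exists_of_mem_P (e.le ht)
  exact ⟨m, (e.rm m).mp ht, rfl⟩

theorem eq_iff {a b : M4} : e.ι a = e.ι b ↔ a = b := e.inj.eq_iff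

theorem eq_one_iff {a : M4} : e.ι a = 1 ↔ a = 1 := by
  rw [← e.eq_iff, map_one]

theorem c_comm {p : G} (hp : p ∈ P) : p * e.ι cm = e.ι cm * p := by
  obtain ⟨m, rfl⟩ := e.exists_of_mem_P hp
  rw [← map_mul, ← map_mul, cm_cent]

theorem c_sq : e.ι cm * e.ι cm = 1 := by
  rw [← map_mul, cm_sq, map_one]

theorem c_ne : e.ι cm ≠ 1 := fun h => cm_ne (e.eq_one_iff.mp h)

theorem z_sq : e.ι tm * e.ι tm = 1 := by
  rw [← map_mul, m_tm_sq, map_one]

theorem z_ne : e.ι tm ≠ 1 := fun h => m_tm_ne.1 (e.eq_one_iff.mp h)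

theorem z_mem_T : e.ι tm ∈ T := (e.rm tm).mpr (by decide)

theorem c_mem_T : e.ι cm ∈ T := (e.rm cm).mpr (by decide)

/-- the centralizer of the central involution is `P` -/
theorem cent_c (hP : IsMaximalTwoLocal P) {g : G} (hg : g * e.ι cm = e.ι cm * g) : g ∈ P :=
  mem_of_max_of_commute hP e.c_sq e.c_ne (fun p hp => e.c_comm hp) hg

theorem isPGroup_map (X : Subgroup M4) (n : ℕ) (h : Nat.card ↥X = 2 ^ n) :
    IsPGroup 2 ↥(X.map e.ι) := by
  haveI : Fact (Nat.Prime 2) := ⟨Nat.prime_two⟩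
  apply IsPGroup.of_card (n := n)
  rw [Subgroup.card_map_of_injective e.inj, h]

theorem card_map (X : Subgroup M4) : Nat.card ↥(X.map e.ι) = Nat.card ↥X :=
  Subgroup.card_map_of_injective e.inj

theorem mem_map_iff {X : Subgroup M4} {m : M4} : e.ι m ∈ X.map e.ι ↔ m ∈ X :=
  Subgroup.mem_map_iff_mem e.inj

theorem A_normal {p a : G} (hp : p ∈ P) (ha : a ∈ E1m.map e.ι) : p * a * p⁻¹ ∈ E1m.map e.ι := by
  obtain ⟨a, ha, rfl⟩ := ha
  obtain ⟨m, rfl⟩ := e.exists_of_mem_P hp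
  rw [← map_mul, ← map_inv, ← map_mul, e.mem_map_iff]
  exact m_E1_norm a ha m

theorem W_normal {p a : G} (hp : p ∈ P) (ha : a ∈ V4m.map e.ι) : p * a * p⁻¹ ∈ V4m.map e.ι := by
  obtain ⟨a, ha, rfl⟩ := ha
  obtain ⟨m, rfl⟩ := e.exists_of_mem_P hp
  rw [← map_mul, ← map_inv, ← map_mul, e.mem_map_iff]
  exact m_V4m_conj a ha m

/-- the normalizer of `O₂(P)` is `P` -/
theorem norm_A (hP : IsMaximalTwoLocal P) {g : G}
    (hg : ∀ a ∈ E1m.map e.ι, g * a * g⁻¹ ∈ E1m.map e.ι) : g ∈ P := by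
  refine mem_of_max_of_normalizes hP (e.isPGroup_map E1m 3 (by rw [card_E1m]; norm_num)) ?_ ?_ hg
  · intro h
    have : e.ι cm ∈ (⊥ : Subgroup G) := by
      rw [← h, e.mem_map_iff]
      show inV4 cm.2
      decide
    exact e.c_ne (Subgroup.mem_bot.mp this)
  · rintro p hp _ ⟨a, ha, rfl⟩
    obtain ⟨m, rfl⟩ := e.exists_of_mem_P hp
    rw [← map_mul, ← map_inv, ← map_mul, e.mem_map_iff]
    exact m_E1_norm a ha m

/-- the normalizer of the four-group `W` is `P` -/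
theorem norm_W (hP : IsMaximalTwoLocal P) {g : G}
    (hg : ∀ a ∈ V4m.map e.ι, g * a * g⁻¹ ∈ V4m.map e.ι) : g ∈ P := by
  refine mem_of_max_of_normalizes hP (e.isPGroup_map V4m 2 (by rw [card_V4m]; norm_num)) ?_ ?_ hg
  · intro h
    have : e.ι tm ∈ (⊥ : Subgroup G) := by
      rw [← h, e.mem_map_iff]
      exact m_tm_V4m.1
    exact e.z_ne (Subgroup.mem_bot.mp this)
  · rintro p hp _ ⟨a, ha, rfl⟩
    obtain ⟨m, rfl⟩ := e.exists_of_mem_P hp
    rw [← map_mul, ← map_inv, ← map_mul, e.mem_map_iff]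
    exact m_V4m_conj a ha m

/-- commutators in `T` -/
theorem comm_T {a b : G} (ha : a ∈ T) (hb : b ∈ T) :
    a * b * a⁻¹ * b⁻¹ = 1 ∨ a * b * a⁻¹ * b⁻¹ = e.ι tm := by
  obtain ⟨x, hx, rfl⟩ := e.exists_of_mem_T ha
  obtain ⟨y, hy, rfl⟩ := e.exists_of_mem_T hb
  rw [← map_mul, ← map_inv, ← map_mul, ← map_inv, ← map_mul, e.eq_one_iff, e.eq_iff]
  exact m_comm_Rm x hx y hy

theorem exists_comm_T : ∃ a ∈ T, ∃ b ∈ T, a * b * a⁻¹ * b⁻¹ = e.ι tm := by
  obtain ⟨x, hx, y, hy, hxy⟩ := m_comm_tm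
  refine ⟨e.ι x, (e.rm x).mpr hx, e.ι y, (e.rm y).mpr hy, ?_⟩
  rw [← map_mul, ← map_inv, ← map_mul, ← map_inv, ← map_mul, hxy]

theorem z_central {r : G} (hr : r ∈ T) : e.ι tm * r = r * e.ι tm := by
  obtain ⟨x, hx, rfl⟩ := e.exists_of_mem_T hr
  rw [← map_mul, ← map_mul, m_tm_central x hx]

/-- the centre of `T` -/
theorem center_T {t : G} (ht : t ∈ T) (hc : ∀ r ∈ T, t * r = r * t) :
    t = 1 ∨ t = e.ι cm ∨ t = e.ι tm ∨ t = e.ι (tm * cm) := by
  obtain ⟨x, hx, rfl⟩ := e.exists_of_mem_T ht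
  rw [e.eq_one_iff, e.eq_iff, e.eq_iff, e.eq_iff]
  apply m_center_Rm x hx
  intro r hr
  have := hc (e.ι r) ((e.rm r).mpr hr)
  rw [← map_mul, ← map_mul, e.eq_iff] at this
  exact this

theorem A_le_T : E1m.map e.ι ≤ T := by
  rintro _ ⟨a, ha, rfl⟩
  exact (e.rm a).mpr (m_V4_D8 a ha)

theorem A'_le_T : E2m.map e.ι ≤ T := by
  rintro _ ⟨a, ha, rfl⟩
  exact (e.rm a).mpr (m_E2_le a ha)

theorem card_T (e : Emb P T) : Nat.card ↥T = 16 := by
  have h : T = Rm.map e.ι := by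
    ext t
    constructor
    · intro ht
      obtain ⟨m, hm, rfl⟩ := e.exists_of_mem_T ht
      exact ⟨m, hm, rfl⟩
    · rintro ⟨m, hm, rfl⟩
      exact (e.rm m).mpr hm
  rw [h, e.card_map, card_Rm]

/-- the elementary abelian subgroups of order `8` of `T` -/
theorem elemab {B : Subgroup G} (hBT : B ≤ T) (hexp : ∀ b ∈ B, b * b = 1)
    (hcard : Nat.card ↥B = 8) : B = E1m.map e.ι ∨ B = E2m.map e.ι := by
  -- `B` is abelian
  have hab : ∀ a ∈ B, ∀ b ∈ B, a * b = b * a := by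
    intro a ha b hb
    have h1 := hexp (a * b) (B.mul_mem ha hb)
    have h2 := hexp a ha
    have h3 := hexp b hb
    have ha' : a⁻¹ = a := inv_eq_of_mul_eq_one_left h2
    have hb' : b⁻¹ = b := inv_eq_of_mul_eq_one_left h3
    have hab' : (a * b)⁻¹ = a * b := inv_eq_of_mul_eq_one_left h1
    calc a * b = (a * b)⁻¹ := hab'.symm
      _ = b⁻¹ * a⁻¹ := mul_inv_rev a b
      _ = b * a := by rw [ha', hb']
  -- a non-central element
  have hnc : ∃ t ∈ B, ¬ (∀ r ∈ T, t * r = r * t) := by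
    by_contra hcon
    push Not at hcon
    have : Nat.card ↥B ≤ 4 := card_le_four_of_forall
      (fun x hx => e.center_T (hBT hx) (hcon x hx))
    omega
  obtain ⟨t, htB, htnc⟩ := hnc
  obtain ⟨t', ht', rfl⟩ := e.exists_of_mem_T (hBT htB)
  have ht'2 : t' * t' = 1 := by
    have := hexp _ htB
    rwa [← map_mul, e.eq_one_iff] at this
  have ht'nc : ¬ (∀ r : M4, inD8 r.2 → t' * r = r * t') := by
    intro h
    apply htnc
    intro r hr
    obtain ⟨r', hr', rfl⟩ := e.exists_of_mem_T hr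
    rw [← map_mul, ← map_mul, h r' hr']
  have key : ∀ (X : Subgroup M4), Nat.card ↥X = 8 →
      (∀ m : M4, inD8 m.2 → m * t' = t' * m → m ∈ X) → B = X.map e.ι := by
    intro X hX hm
    apply Subgroup.eq_of_le_of_card_ge
    · intro b hb
      obtain ⟨b', hb', rfl⟩ := e.exists_of_mem_T (hBT hb)
      rw [e.mem_map_iff]
      apply hm b' hb'
      have := hab _ hb _ htB
      rwa [← map_mul, ← map_mul, e.eq_iff] at this
    · rw [e.card_map, hX, hcard]
  rcases m_cent_invol t' ht' ht'2 ht'nc with h | h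
  · left
    exact key E1m card_E1m (fun m hm hmt => h m hm hmt)
  · right
    exact key E2m card_E2m (fun m hm hmt => h m hm hmt)

/-- the central involution of `P` is not conjugate to the central commutator of `T` -/
theorem not_conj_z (hP : IsMaximalTwoLocal P) (g : G) : g * e.ι cm * g⁻¹ ≠ e.ι tm := by
  intro hg
  obtain ⟨a, ha, b, hb, hab⟩ := e.exists_comm_T
  have hcz : e.ι cm = g⁻¹ * e.ι tm * g := by rw [← hg]; group
  have hmem : ∀ t ∈ T, g⁻¹ * t * g ∈ P := by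
    intro t ht
    apply e.cent_c hP
    rw [hcz]
    have := e.z_central ht
    calc g⁻¹ * t * g * (g⁻¹ * e.ι tm * g) = g⁻¹ * (t * e.ι tm) * g := by group
      _ = g⁻¹ * (e.ι tm * t) * g := by rw [this]
      _ = g⁻¹ * e.ι tm * g * (g⁻¹ * t * g) := by group
  obtain ⟨x, hx⟩ := e.exists_of_mem_P (hmem a ha)
  obtain ⟨y, hy⟩ := e.exists_of_mem_P (hmem b hb)
  have h1 : e.ι (x * y * x⁻¹ * y⁻¹) = e.ι cm := by
    rw [map_mul, map_mul, map_mul, map_inv, map_inv, hx, hy, hcz, ← hab]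
    group
  exact m_comm_ne_cm x y (e.eq_iff.mp h1)

/-- intrinsic description of the four-group `W` -/
theorem mem_W_iff {w : G} : w ∈ V4m.map e.ι ↔
    w ∈ T ∧ ∃ a ∈ P, ∃ b ∈ P, a ^ 3 = 1 ∧ b ^ 3 = 1 ∧ w = a * b := by
  constructor
  · rintro ⟨m, hm, rfl⟩
    have h1 := m_V4m_le m hm
    refine ⟨(e.rm m).mpr h1.2.1, ?_⟩
    obtain ⟨a, b, ha, hb, hab⟩ := (m_A4m_iff m).mp h1.1
    refine ⟨e.ι a, e.mem_P a, e.ι b, e.mem_P b, ?_, ?_, ?_⟩
    · rw [← map_pow, ha, map_one]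
    · rw [← map_pow, hb, map_one]
    · rw [hab, map_mul]
  · rintro ⟨hw, a, ha, b, hb, ha3, hb3, rfl⟩
    obtain ⟨x, rfl⟩ := e.exists_of_mem_P ha
    obtain ⟨y, rfl⟩ := e.exists_of_mem_P hb
    rw [← map_mul] at hw ⊢
    rw [e.mem_map_iff]
    have hx3 : x ^ 3 = 1 := by
      rw [← map_pow, e.eq_one_iff] at ha3; exact ha3
    have hy3 : y ^ 3 = 1 := by
      rw [← map_pow, e.eq_one_iff] at hb3; exact hb3
    exact m_A4m_inter_Rm _ ((m_A4m_iff _).mpr ⟨x, y, hx3, hy3, rfl⟩) ((e.rm _).mp hw)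

/-- the image of `1 × A₄` lies in the subgroup generated by the elements of odd order -/
theorem O_le_H {m : M4} (hm : inA4m m) :
    e.ι m ∈ Subgroup.closure {g : G | Odd (orderOf g)} := by
  obtain ⟨a, b, ha, hb, rfl⟩ := (m_A4m_iff m).mp hm
  rw [map_mul]
  apply Subgroup.mul_mem
  · apply mem_oddClosure_of_cube
    rw [← map_pow, ha, map_one]
  · apply mem_oddClosure_of_cube
    rw [← map_pow, hb, map_one]

theorem W_le_H {m : M4} (hm : inV4m m) :
    e.ι m ∈ Subgroup.closure {g : G | Odd (orderOf g)} :=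
  e.O_le_H (m_V4m_le m hm).1

/-- nontrivial elements of `W` are conjugate to the central commutator -/
theorem conj_z {m : M4} (hm : inV4m m) (h1 : m ≠ 1) : ∃ p : G, p * e.ι m * p⁻¹ = e.ι tm := by
  obtain ⟨p, hp⟩ := m_V4m_conj_tm m hm h1
  refine ⟨e.ι p, ?_⟩
  rw [← map_mul, ← map_inv, ← map_mul, hp]

/-- the twisted embedding -/
def twisted : Emb P T where
  ι := e.ι.comp twist
  inj := e.inj.comp twist_injective
  range := by
    intro g
    rw [e.range]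
    constructor
    · rintro ⟨m, rfl⟩
      exact ⟨twist m, by simp [twist_twist]⟩
    · rintro ⟨m, rfl⟩
      exact ⟨twist m, rfl⟩
  rm := by
    intro m
    exact e.rm (twist m)
  le := e.le

theorem twisted_apply (m : M4) : e.twisted.ι m = e.ι (twist m) := rfl

end Emb

end Cfsg.Agent.Lib.Helper5.KSFin
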