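import Mathlib
import Cfsg.Prelude
import Cfsg.Agent.Lib.Helper5.KSFin.One

set_option autoImplicit false
set_option linter.unusedSectionVars false
set_option linter.unusedVariables false
set_option maxHeartbeats 1000000
open Cfsg Equiv

/-! Two maximal `2`-locals `P₁ ≠ P₂`, both isomorphic to `C₂ × S₄`, sharing a Sylow `2`-subgroup:
normalization of the embeddings. -/

namespace Cfsg.Agent.Lib.Helper5.KSFin

open Cfsg.Agent.Lib.Helper5.KSEnd

variable {G : Type*} [Group G] [Finite G] {T P₁ P₂ : Subgroup G}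

/-- the central commutators agree -/
theorem pair_z (e₁ : Emb P₁ T) (e₂ : Emb P₂ T) : e₂.ι tm = e₁.ι tm := by
  obtain ⟨a, ha, b, hb, hab⟩ := e₂.exists_comm_T
  rcases e₁.comm_T ha hb with h | h
  · rw [h] at hab
    exact absurd hab.symm e₂.z_ne
  · rw [← hab, h]

/-- the central involutions differ by the central commutator -/
theorem pair_c (e₁ : Emb P₁ T) (e₂ : Emb P₂ T) (h₁ : IsMaximalTwoLocal P₁)
    (h₂ : IsMaximalTwoLocal P₂) (hne : P₁ ≠ P₂) : e₂.ι cm = e₁.ι (tm * cm) := by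
  have hcen : ∀ r ∈ T, e₂.ι cm * r = r * e₂.ι cm := fun r hr => (e₂.c_comm (e₂.le hr)).symm
  rcases e₁.center_T e₂.c_mem_T hcen with h | h | h | h
  · exact absurd h e₂.c_ne
  · exfalso
    apply hne
    apply le_antisymm
    · intro p hp
      apply e₂.cent_c h₂
      rw [h]
      exact e₁.c_comm hp
    · intro p hp
      apply e₁.cent_c h₁
      rw [← h]
      exact e₂.c_comm hp
  · exfalso
    rw [← pair_z e₁ e₂, e₂.eq_iff] at h
    exact m_tm_ne.2.1 h.symm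
  · exact h

/-- the normal elementary abelian subgroup of `P₂` is the second one of `T` as seen from `P₁` -/
theorem pair_A (e₁ : Emb P₁ T) (e₂ : Emb P₂ T) (h₁ : IsMaximalTwoLocal P₁)
    (h₂ : IsMaximalTwoLocal P₂) (hne : P₁ ≠ P₂) : E1m.map e₂.ι = E2m.map e₁.ι := by
  have hexp : ∀ b ∈ E1m.map e₂.ι, b * b = 1 := by
    rintro _ ⟨a, ha, rfl⟩
    rw [← map_mul, m_E1_exp a ha, map_one]
  have hcard : Nat.card ↥(E1m.map e₂.ι) = 8 := by rw [e₂.card_map, card_E1m]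
  rcases e₁.elemab e₂.A_le_T hexp hcard with h | h
  · exfalso
    apply hne
    apply le_antisymm
    · intro p hp
      apply e₂.norm_A h₂
      rw [h]
      intro a ha
      exact e₁.A_normal hp ha
    · intro p hp
      apply e₁.norm_A h₁
      rw [← h]
      intro a ha
      exact e₂.A_normal hp ha
  · exact h

/-- a normalized configuration: the four-group of `P₂` is the image of `1 × W₄` under the embedding
for `P₁` -/
structure Conf (T P₁ P₂ : Subgroup G) where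
  e₁ : Emb P₁ T
  e₂ : Emb P₂ T
  hz : e₂.ι tm = e₁.ι tm
  hc : e₂.ι cm = e₁.ι (tm * cm)
  hA : E1m.map e₂.ι = E2m.map e₁.ι
  hW : V4m.map e₂.ι = W4m.map e₁.ι

theorem exists_conf (e₁ : Emb P₁ T) (e₂ : Emb P₂ T) (h₁ : IsMaximalTwoLocal P₁)
    (h₂ : IsMaximalTwoLocal P₂) (hne : P₁ ≠ P₂) : ∃ c : Conf T P₁ P₂, c.e₂ = e₂ := by
  -- the image of `vm`
  have hv : e₂.ι vm ∈ E2m.map e₁.ι := by
    rw [← pair_A e₁ e₂ h₁ h₂ hne, e₂.mem_map_iff]
    exact m_V4m_E1m vm m_vm.1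
  obtain ⟨u₀, hu₀, hu₀v⟩ := hv
  have hu₀' : inW4 u₀.2 := hu₀
  have hc := pair_c e₁ e₂ h₁ h₂ hne
  have hz := pair_z e₁ e₂
  have hc' : e₁.ι cm = e₂.ι (tm * cm) := by
    rw [map_mul, hc, hz, map_mul, ← mul_assoc, e₁.z_sq, one_mul]
  have hnv : ¬ inV4 u₀.2 := by
    intro hv4
    rcases m_inter u₀ hv4 hu₀' with h | h | h | h
    · rw [h, map_one] at hu₀v
      exact m_vm_ne.1 (e₂.eq_one_iff.mp hu₀v.symm)
    · rw [h, hc', e₂.eq_iff] at hu₀v
      exact m_vm_ne.2.2.2 hu₀v.symm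
    · rw [h, ← hz, e₂.eq_iff] at hu₀v
      exact m_vm_ne.2.2.1 hu₀v.symm
    · rw [h, ← hc, e₂.eq_iff] at hu₀v
      exact m_vm_ne.2.1 hu₀v.symm
  -- the normalized embedding
  have key : ∃ (e₁' : Emb P₁ T) (u : M4), inW4m u ∧ ¬ inV4 u.2 ∧ e₁'.ι u = e₂.ι vm := by
    rcases m_W4m_or_twist u₀ hu₀' hnv with h | h
    · exact ⟨e₁, u₀, h, hnv, hu₀v⟩
    · refine ⟨e₁.twisted, twist u₀, h, ?_, ?_⟩
      · rw [twist_snd]; exact hnv
      · rw [Emb.twisted_apply, twist_twist]; exact hu₀v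
  obtain ⟨e₁', u, hu, hunv, huv⟩ := key
  have hz' := pair_z e₁' e₂
  refine ⟨⟨e₁', e₂, hz', pair_c e₁' e₂ h₁ h₂ hne, pair_A e₁' e₂ h₁ h₂ hne, ?_⟩, rfl⟩
  ext g
  constructor
  · rintro ⟨m, hm, rfl⟩
    have hm' : inV4m m := hm
    rcases (m_V4m_list m).mp hm' with h | h | h | h
    · refine ⟨1, Subgroup.one_mem _, ?_⟩
      rw [h]; simp
    · refine ⟨tm, (m_W4m_list u hu hunv tm).mpr (Or.inr (Or.inl rfl)), ?_⟩
      rw [h, hz']
    · refine ⟨u, hu, ?_⟩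
      rw [h, huv]
    · refine ⟨tm * u, (m_W4m_list u hu hunv _).mpr (Or.inr (Or.inr (Or.inr rfl))), ?_⟩
      rw [h, map_mul, map_mul, huv, hz']
  · rintro ⟨m, hm, rfl⟩
    have hm' : inW4m m := hm
    rcases (m_W4m_list u hu hunv m).mp hm' with h | h | h | h
    · refine ⟨1, Subgroup.one_mem _, ?_⟩
      rw [h]; simp
    · refine ⟨tm, m_tm_V4m.1, ?_⟩
      rw [h, hz']
    · refine ⟨vm, m_vm.1, ?_⟩
      rw [h, huv]
    · refine ⟨tm * vm, (m_V4m_list _).mpr (Or.inr (Or.inr (Or.inr rfl))), ?_⟩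
      rw [h, map_mul, map_mul, huv, hz']

end Cfsg.Agent.Lib.Helper5.KSFin
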