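import Mathlib
import Cfsg.Prelude
import Cfsg.Agent.Lib.Helper5.KSFin.Pair

set_option autoImplicit false
set_option linter.unusedSectionVars false
set_option linter.unusedVariables false
set_option maxHeartbeats 1000000
open Cfsg Equiv

/-! Elements normalizing the common Sylow `2`-subgroup `T` of `P₁`, `P₂` that lie outside `P₁`:
they interchange the two configurations. -/

namespace Cfsg.Agent.Lib.Helper5.KSFin

open Cfsg.Agent.Lib.Helper5.KSEnd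

variable {G : Type*} [Group G] [Finite G] {T P₁ P₂ : Subgroup G}

/-- conjugation by `x` carries the four-group of one embedding onto that of another when it carries
`T` into `T` and `P` into `P'` -/
theorem conj_W {P P' : Subgroup G} (e : Emb P T) (e' : Emb P' T) {x : G}
    (hxT : ∀ t ∈ T, x * t * x⁻¹ ∈ T) (hxP : ∀ g ∈ P, x * g * x⁻¹ ∈ P') {w : G}
    (hw : w ∈ V4m.map e.ι) : x * w * x⁻¹ ∈ V4m.map e'.ι := by
  rw [Emb.mem_W_iff] at hw ⊢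
  obtain ⟨hwT, a, ha, b, hb, ha3, hb3, rfl⟩ := hw
  refine ⟨hxT _ hwT, x * a * x⁻¹, hxP a ha, x * b * x⁻¹, hxP b hb, ?_, ?_, by group⟩
  · rw [conj_pow, ha3]; group
  · rw [conj_pow, hb3]; group

/-- an element normalizing `T` outside `P₁` -/
def Outer (c : Conf T P₁ P₂) (x : G) : Prop :=
  (∀ t, x * t * x⁻¹ ∈ T ↔ t ∈ T) ∧ x ∉ P₁

namespace Outer

variable {c : Conf T P₁ P₂} {x : G}

theorem inv (hx : Outer c x) : Outer c x⁻¹ := by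
  refine ⟨?_, fun h => hx.2 (by simpa using P₁.inv_mem h)⟩
  intro t
  rw [← hx.1 (x⁻¹ * t * x⁻¹⁻¹)]
  have : x * (x⁻¹ * t * x⁻¹⁻¹) * x⁻¹ = t := by group
  rw [this]

theorem mem_T (hx : Outer c x) {t : G} (ht : t ∈ T) : x * t * x⁻¹ ∈ T := (hx.1 t).mpr ht

theorem mem_T' (hx : Outer c x) {t : G} (ht : t ∈ T) : x⁻¹ * t * x ∈ T := by
  have := hx.inv.mem_T ht
  simpa using this

/-- the central commutator is fixed -/
theorem conj_z (hx : Outer c x) : x * c.e₁.ι tm * x⁻¹ = c.e₁.ι tm := by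
  obtain ⟨a, ha, b, hb, hab⟩ := c.e₁.exists_comm_T
  have h1 := c.e₁.comm_T (hx.mem_T ha) (hx.mem_T hb)
  have h2 : x * a * x⁻¹ * (x * b * x⁻¹) * (x * a * x⁻¹)⁻¹ * (x * b * x⁻¹)⁻¹ =
      x * (a * b * a⁻¹ * b⁻¹) * x⁻¹ := by group
  rw [h2, hab] at h1
  rcases h1 with h | h
  · exfalso
    apply c.e₁.z_ne
    calc c.e₁.ι tm = x⁻¹ * (x * c.e₁.ι tm * x⁻¹) * x := by group
      _ = 1 := by rw [h]; group
  · exact h

/-- the two central involutions are interchanged -/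
theorem conj_c (hx : Outer c x) (h₁ : IsMaximalTwoLocal P₁) :
    x * c.e₁.ι cm * x⁻¹ = c.e₁.ι (tm * cm) := by
  have ht : x * c.e₁.ι cm * x⁻¹ ∈ T := hx.mem_T c.e₁.c_mem_T
  have hcen : ∀ r ∈ T, x * c.e₁.ι cm * x⁻¹ * r = r * (x * c.e₁.ι cm * x⁻¹) := by
    intro r hr
    have hr' := hx.mem_T' hr
    have h1 := c.e₁.c_comm (c.e₁.le hr')
    calc x * c.e₁.ι cm * x⁻¹ * r = x * (c.e₁.ι cm * (x⁻¹ * r * x)) * x⁻¹ := by group
      _ = x * ((x⁻¹ * r * x) * c.e₁.ι cm) * x⁻¹ := by rw [h1]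
      _ = r * (x * c.e₁.ι cm * x⁻¹) := by group
  rcases c.e₁.center_T ht hcen with h | h | h | h
  · exfalso
    apply c.e₁.c_ne
    calc c.e₁.ι cm = x⁻¹ * (x * c.e₁.ι cm * x⁻¹) * x := by group
      _ = 1 := by rw [h]; group
  · exfalso
    apply hx.2
    apply c.e₁.cent_c h₁
    calc x * c.e₁.ι cm = (x * c.e₁.ι cm * x⁻¹) * x := by group
      _ = c.e₁.ι cm * x := by rw [h]
  · exact absurd h (c.e₁.not_conj_z h₁ x)
  · exact h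

theorem c₂_eq (c : Conf T P₁ P₂) : c.e₁.ι (tm * cm) = c.e₁.ι tm * c.e₁.ι cm := map_mul _ _ _

theorem conj_c' (hx : Outer c x) (h₁ : IsMaximalTwoLocal P₁) :
    x * c.e₁.ι (tm * cm) * x⁻¹ = c.e₁.ι cm := by
  have h1 := hx.conj_z
  have h2 := hx.conj_c h₁
  calc x * c.e₁.ι (tm * cm) * x⁻¹ = (x * c.e₁.ι tm * x⁻¹) * (x * c.e₁.ι cm * x⁻¹) := by
        rw [map_mul]; group
    _ = c.e₁.ι tm * c.e₁.ι (tm * cm) := by rw [h1, h2]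
    _ = c.e₁.ι cm := by
        rw [← map_mul, ← mul_assoc, m_tm_sq, one_mul]

/-- `P₁` and `P₂` are interchanged -/
theorem mem_P_iff (hx : Outer c x) (h₁ : IsMaximalTwoLocal P₁) (h₂ : IsMaximalTwoLocal P₂)
    {g : G} : g ∈ P₁ ↔ x * g * x⁻¹ ∈ P₂ := by
  have hc := hx.conj_c h₁
  constructor
  · intro hg
    apply c.e₂.cent_c h₂
    rw [c.hc, ← hc]
    have := c.e₁.c_comm hg
    calc x * g * x⁻¹ * (x * c.e₁.ι cm * x⁻¹) = x * (g * c.e₁.ι cm) * x⁻¹ := by group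
      _ = x * (c.e₁.ι cm * g) * x⁻¹ := by rw [this]
      _ = x * c.e₁.ι cm * x⁻¹ * (x * g * x⁻¹) := by group
  · intro hg
    apply c.e₁.cent_c h₁
    have := c.e₂.c_comm hg
    rw [c.hc, ← hc] at this
    calc g * c.e₁.ι cm = x⁻¹ * ((x * g * x⁻¹) * (x * c.e₁.ι cm * x⁻¹)) * x := by group
      _ = x⁻¹ * ((x * c.e₁.ι cm * x⁻¹) * (x * g * x⁻¹)) * x := by rw [this]
      _ = c.e₁.ι cm * g := by group

theorem mem_P_iff' (hx : Outer c x) (h₁ : IsMaximalTwoLocal P₁) (h₂ : IsMaximalTwoLocal P₂)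
    {g : G} : g ∈ P₂ ↔ x * g * x⁻¹ ∈ P₁ := by
  have := hx.inv.mem_P_iff h₁ h₂ (g := x * g * x⁻¹)
  rw [this]
  have e : x⁻¹ * (x * g * x⁻¹) * x⁻¹⁻¹ = g := by group
  rw [e]

/-- the two four-groups are interchanged -/
theorem conj_W₁ (hx : Outer c x) (h₁ : IsMaximalTwoLocal P₁) (h₂ : IsMaximalTwoLocal P₂)
    {w : G} (hw : w ∈ V4m.map c.e₁.ι) : x * w * x⁻¹ ∈ W4m.map c.e₁.ι := by
  rw [← c.hW]
  exact conj_W c.e₁ c.e₂ (fun t ht => hx.mem_T ht) (fun g hg => (hx.mem_P_iff h₁ h₂).mp hg) hw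

theorem conj_W₂ (hx : Outer c x) (h₁ : IsMaximalTwoLocal P₁) (h₂ : IsMaximalTwoLocal P₂)
    {w : G} (hw : w ∈ W4m.map c.e₁.ι) : x * w * x⁻¹ ∈ V4m.map c.e₁.ι := by
  rw [← c.hW] at hw
  exact conj_W c.e₂ c.e₁ (fun t ht => hx.mem_T ht) (fun g hg => (hx.mem_P_iff' h₁ h₂).mp hg) hw

theorem W₂_le_A₂ (c : Conf T P₁ P₂) : W4m.map c.e₁.ι ≤ E2m.map c.e₁.ι := by
  rintro _ ⟨m, hm, rfl⟩
  exact ⟨m, m_W4m_E2m m hm, rfl⟩

/-- the two elementary abelian subgroups of order `8` are interchanged -/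
theorem conj_A₁ (hx : Outer c x) (h₁ : IsMaximalTwoLocal P₁) (h₂ : IsMaximalTwoLocal P₂)
    {a : G} (ha : a ∈ E1m.map c.e₁.ι) : x * a * x⁻¹ ∈ E2m.map c.e₁.ι := by
  obtain ⟨m, hm, rfl⟩ := ha
  rcases m_E1m_split m hm with h | h
  · exact W₂_le_A₂ c (hx.conj_W₁ h₁ h₂ ⟨m, h, rfl⟩)
  · have h1 : x * c.e₁.ι (cm * m) * x⁻¹ ∈ E2m.map c.e₁.ι :=
      W₂_le_A₂ c (hx.conj_W₁ h₁ h₂ ⟨cm * m, h, rfl⟩)
    have h2 : c.e₁.ι (tm * cm) ∈ E2m.map c.e₁.ι := ⟨tm * cm, m_tmcm_E2m.1, rfl⟩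
    have h3 : x * c.e₁.ι m * x⁻¹ =
        (c.e₁.ι (tm * cm))⁻¹ * (x * c.e₁.ι (cm * m) * x⁻¹) := by
      rw [← hx.conj_c h₁, map_mul]; group
    rw [h3]
    exact Subgroup.mul_mem _ (Subgroup.inv_mem _ h2) h1

theorem W₁_le_D (c : Conf T P₁ P₂) : V4m.map c.e₁.ι ≤ D8m.map c.e₁.ι := by
  rintro _ ⟨m, hm, rfl⟩
  exact ⟨m, m_V4m_D8m m hm, rfl⟩

theorem W₂_le_D (c : Conf T P₁ P₂) : W4m.map c.e₁.ι ≤ D8m.map c.e₁.ι := by
  rintro _ ⟨m, hm, rfl⟩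
  exact ⟨m, m_W4m_D8m m hm, rfl⟩

/-- the dihedral subgroup `D = W₁ W₂` is normalized -/
theorem conj_D (hx : Outer c x) (h₁ : IsMaximalTwoLocal P₁) (h₂ : IsMaximalTwoLocal P₂)
    {d : G} (hd : d ∈ D8m.map c.e₁.ι) : x * d * x⁻¹ ∈ D8m.map c.e₁.ι := by
  obtain ⟨m, hm, rfl⟩ := hd
  obtain ⟨u, hu, v, hv, rfl⟩ := m_D8m_prod m hm
  have h1 := W₂_le_D c (hx.conj_W₁ h₁ h₂ ⟨u, hu, rfl⟩)
  have h2 := W₁_le_D c (hx.conj_W₂ h₁ h₂ ⟨v, hv, rfl⟩)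
  have h3 : x * c.e₁.ι (u * v) * x⁻¹ = (x * c.e₁.ι u * x⁻¹) * (x * c.e₁.ι v * x⁻¹) := by
    rw [map_mul]; group
  rw [h3]
  exact Subgroup.mul_mem _ h1 h2

theorem conj_D_iff (hx : Outer c x) (h₁ : IsMaximalTwoLocal P₁) (h₂ : IsMaximalTwoLocal P₂)
    (d : G) : x * d * x⁻¹ ∈ D8m.map c.e₁.ι ↔ d ∈ D8m.map c.e₁.ι := by
  constructor
  · intro h
    have := hx.inv.conj_D h₁ h₂ h
    have e : x⁻¹ * (x * d * x⁻¹) * x⁻¹⁻¹ = d := by group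
    rwa [e] at this
  · exact hx.conj_D h₁ h₂

/-- two outer elements of a `2`-group meeting `P₁` in `T` differ by an element of `T` -/
theorem inv_mul_mem {S : Subgroup G} (hS₁ : ∀ s ∈ S, s ∈ P₁ → s ∈ T) (h₁ : IsMaximalTwoLocal P₁)
    {x' : G} (hx : Outer c x) (hx' : Outer c x') (hxS : x ∈ S) (hx'S : x' ∈ S) :
    x⁻¹ * x' ∈ T := by
  apply hS₁ _ (S.mul_mem (S.inv_mem hxS) hx'S)
  apply c.e₁.cent_c h₁
  have h1 := hx.conj_c h₁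
  have h2 := hx'.conj_c h₁
  calc x⁻¹ * x' * c.e₁.ι cm = x⁻¹ * (x' * c.e₁.ι cm * x'⁻¹) * x' := by group
    _ = x⁻¹ * (x * c.e₁.ι cm * x⁻¹) * x' := by rw [h2, h1]
    _ = c.e₁.ι cm * (x⁻¹ * x') := by group

theorem mul_inv_mem {S : Subgroup G} (hS₁ : ∀ s ∈ S, s ∈ P₁ → s ∈ T) (h₁ : IsMaximalTwoLocal P₁)
    {x' : G} (hx : Outer c x) (hx' : Outer c x') (hxS : x ∈ S) (hx'S : x' ∈ S) :
    x' * x⁻¹ ∈ T := by
  have := inv_mul_mem hS₁ h₁ hx'.inv hx.inv (S.inv_mem hx'S) (S.inv_mem hxS)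
  simpa using this

end Outer

end Cfsg.Agent.Lib.Helper5.KSFin
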