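import Mathlib
import Cfsg.Prelude
import Cfsg.Agent.Lib.Helper5.KSFin.Outer

set_option autoImplicit false
set_option linter.unusedSectionVars false
set_option linter.unusedVariables false
set_option maxHeartbeats 1000000
open Cfsg Equiv

/-! A `2`-subgroup `S ⊇ T` meeting `P₁` and `P₂` in `T` normalizes `T`. -/

namespace Cfsg.Agent.Lib.Helper5.KSFin

open Cfsg.Agent.Lib.Helper5.KSEnd

variable {G : Type*} [Group G] [Finite G] {T P₁ P₂ : Subgroup G}

/-- relative index `2` from a coset representative -/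
theorem relIndex_two_of_coset {A B : Subgroup G} (hAB : A ≤ B) {x : G} (hxB : x ∈ B)
    (hxA : x ∉ A) (h : ∀ b ∈ B, b ∉ A → b * x⁻¹ ∈ A) : A.relIndex B = 2 := by
  rw [Subgroup.relIndex, Subgroup.index_eq_two_iff]
  refine ⟨⟨x⁻¹, B.inv_mem hxB⟩, ?_⟩
  rintro ⟨b, hb⟩
  by_cases hbA : b ∈ A
  · right
    refine ⟨hbA, ?_⟩
    intro h1
    have h2 : b * x⁻¹ ∈ A := h1
    apply hxA
    have h3 : x = (b * x⁻¹)⁻¹ * b := by group
    rw [h3]
    exact A.mul_mem (A.inv_mem h2) hbA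
  · left
    exact ⟨h b hb hbA, hbA⟩

theorem sylow_normalizes (c : Conf T P₁ P₂) (h₁ : IsMaximalTwoLocal P₁)
    (h₂ : IsMaximalTwoLocal P₂) {S : Subgroup G} (hS2 : IsPGroup 2 ↥S) (hTS : T ≤ S)
    (hS₁ : ∀ s ∈ S, s ∈ P₁ → s ∈ T) (hS₂ : ∀ s ∈ S, s ∈ P₂ → s ∈ T) :
    ∀ s ∈ S, ∀ t, s * t * s⁻¹ ∈ T ↔ t ∈ T := by
  by_cases hTS' : T = S
  · subst hTS'
    intro s hs t
    constructor
    · intro h
      have := T.mul_mem (T.mul_mem (T.inv_mem hs) h) hs
      have e : s⁻¹ * (s * t * s⁻¹) * s = t := by group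
      rwa [e] at this
    · intro h
      exact T.mul_mem (T.mul_mem hs h) (T.inv_mem hs)
  obtain ⟨x, hxS, hxT, hxn⟩ := exists_normalizing hS2 hTS hTS'
  have hxO : Outer c x := ⟨hxn, fun h => hxT (hS₁ x hxS h)⟩
  set R : Subgroup G := S ⊓ Subgroup.normalizer (T : Set G) with hR
  have memR : ∀ g, g ∈ R ↔ g ∈ S ∧ ∀ t, g * t * g⁻¹ ∈ T ↔ t ∈ T := by
    intro g
    rw [hR, Subgroup.mem_inf, Subgroup.mem_normalizer_iff]
    constructor
    · rintro ⟨h1, h2⟩
      exact ⟨h1, fun t => (h2 t).symm⟩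
    · rintro ⟨h1, h2⟩
      exact ⟨h1, fun t => (h2 t).symm⟩
  suffices hRS : R = S by
    intro s hs
    rw [← hRS] at hs
    exact ((memR s).mp hs).2
  by_contra hRS
  obtain ⟨y₀, hy₀S, hy₀R, hy₀n⟩ := exists_normalizing hS2 (inf_le_left : R ≤ S) hRS
  have hxR : x ∈ R := (memR x).mpr ⟨hxS, hxn⟩
  have hTR : T ≤ R := by
    intro t ht
    refine (memR t).mpr ⟨hTS ht, fun t' => ?_⟩
    constructor
    · intro h
      have := T.mul_mem (T.mul_mem (T.inv_mem ht) h) ht
      have e : t⁻¹ * (t * t' * t⁻¹) * t = t' := by group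
      rwa [e] at this
    · intro h
      exact T.mul_mem (T.mul_mem ht h) (T.inv_mem ht)
  have hOut : ∀ r ∈ R, r ∉ T → Outer c r := by
    intro r hr hrT
    obtain ⟨hrS, hrn⟩ := (memR r).mp hr
    exact ⟨hrn, fun h => hrT (hS₁ r hrS h)⟩
  -- orders
  have hcT : Nat.card ↥T = 16 := c.e₁.card_T
  have hTR2 : T.relIndex R = 2 := by
    apply relIndex_two_of_coset hTR hxR hxT
    intro b hb hbT
    exact Outer.mul_inv_mem hS₁ h₁ hxO (hOut b hb hbT) hxS ((memR b).mp hb).1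
  have hcR : Nat.card ↥R = 32 := by
    have := card_mul_relIndex_of_le hTR
    rw [hcT, hTR2] at this
    omega
  -- the conjugate
  have hT'R : cj y₀ T ≤ R := cj_le_of_normalizes hTR (fun r hr => (hy₀n r).mpr hr)
  have hcT' : Nat.card ↥(cj y₀ T) = 16 := by rw [card_cj, hcT]
  have hT'R2 : (cj y₀ T).relIndex R = 2 := by
    have := card_mul_relIndex_of_le hT'R
    rw [hcT', hcR] at this
    omega
  set I : Subgroup G := T ⊓ cj y₀ T with hI
  have hIR : I ≤ R := inf_le_left.trans hTR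
  have hIT : I ≤ T := inf_le_left
  have hcI : 8 ≤ Nat.card ↥I := by
    have h1 : I.relIndex R ≤ 2 * 2 := by
      have := Subgroup.relIndex_inf_le (H := T) (K := cj y₀ T) (L := R)
      rwa [hTR2, hT'R2] at this
    have h2 := card_mul_relIndex_of_le hIR
    rw [hcR] at h2
    by_contra hlt
    push Not at hlt
    have : Nat.card ↥I * I.relIndex R ≤ 7 * 4 := Nat.mul_le_mul (by omega) h1
    omega
  -- the conjugate of the central involution
  set c' : G := y₀ * c.e₁.ι cm * y₀⁻¹ with hc'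
  have hc'T' : c' ∈ cj y₀ T := conj_mem_cj c.e₁.c_mem_T
  have hc'comm : ∀ i ∈ cj y₀ T, i * c' = c' * i := by
    intro i hi
    obtain ⟨t, ht, rfl⟩ := exists_of_mem_cj hi
    have := c.e₁.c_comm (c.e₁.le ht)
    rw [hc']
    calc y₀ * t * y₀⁻¹ * (y₀ * c.e₁.ι cm * y₀⁻¹) = y₀ * (t * c.e₁.ι cm) * y₀⁻¹ := by group
      _ = y₀ * (c.e₁.ι cm * t) * y₀⁻¹ := by rw [this]
      _ = y₀ * c.e₁.ι cm * y₀⁻¹ * (y₀ * t * y₀⁻¹) := by group
  have hc'sq : c' * c' = 1 := by
    rw [hc']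
    calc y₀ * c.e₁.ι cm * y₀⁻¹ * (y₀ * c.e₁.ι cm * y₀⁻¹)
        = y₀ * (c.e₁.ι cm * c.e₁.ι cm) * y₀⁻¹ := by group
      _ = 1 := by rw [c.e₁.c_sq]; group
  have hy₀T : y₀ ∉ T := fun h => hy₀R (hTR h)
  by_cases hc'T : c' ∈ T
  · -- `c'` is a non-central involution of `T`
    have hnc : ¬ (∀ r ∈ T, c' * r = r * c') := by
      intro hcen
      rcases c.e₁.center_T hc'T hcen with h | h | h | h
      · apply c.e₁.c_ne
        calc c.e₁.ι cm = y₀⁻¹ * c' * y₀ := by rw [hc']; group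
          _ = 1 := by rw [h]; group
      · apply hy₀T
        apply hS₁ y₀ hy₀S
        apply c.e₁.cent_c h₁
        calc y₀ * c.e₁.ι cm = c' * y₀ := by rw [hc']; group
          _ = c.e₁.ι cm * y₀ := by rw [h]
      · exact c.e₁.not_conj_z h₁ y₀ h
      · -- `c' = x c₁ x⁻¹`
        have h2 := hxO.conj_c h₁
        have h3 : x⁻¹ * y₀ ∈ T := by
          apply hS₁ _ (S.mul_mem (S.inv_mem hxS) hy₀S)
          apply c.e₁.cent_c h₁
          calc x⁻¹ * y₀ * c.e₁.ι cm = x⁻¹ * c' * y₀ := by rw [hc']; group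
            _ = x⁻¹ * (x * c.e₁.ι cm * x⁻¹) * y₀ := by rw [h, h2]
            _ = c.e₁.ι cm * (x⁻¹ * y₀) := by group
        apply hy₀R
        have h4 : y₀ = x * (x⁻¹ * y₀) := by group
        rw [h4]
        exact R.mul_mem hxR (hTR h3)
    obtain ⟨t', ht', ht'c⟩ := c.e₁.exists_of_mem_T hc'T
    have ht'2 : t' * t' = 1 := by
      rw [← ht'c, ← map_mul, c.e₁.eq_one_iff] at hc'sq
      exact hc'sq
    have ht'nc : ¬ (∀ r : M4, inD8 r.2 → t' * r = r * t') := by
      intro h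
      apply hnc
      intro r hr
      obtain ⟨r', hr', rfl⟩ := c.e₁.exists_of_mem_T hr
      rw [← ht'c, ← map_mul, ← map_mul, h r' hr']
    -- `x` normalizes `I`
    have hxI : ∀ i ∈ I, x * i * x⁻¹ ∈ I := by
      intro i hi
      rw [hI, Subgroup.mem_inf] at hi ⊢
      refine ⟨hxO.mem_T hi.1, ?_⟩
      rw [mem_cj]
      have hi2 := hi.2
      rw [mem_cj] at hi2
      have hr : y₀⁻¹ * x * y₀ ∈ R := by
        rw [← hy₀n]
        have e : y₀ * (y₀⁻¹ * x * y₀) * y₀⁻¹ = x := by group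
        rw [e]; exact hxR
      have := ((memR _).mp hr).2 (y₀⁻¹ * i * y₀)
      have e : y₀⁻¹ * (x * i * x⁻¹) * y₀ =
          y₀⁻¹ * x * y₀ * (y₀⁻¹ * i * y₀) * (y₀⁻¹ * x * y₀)⁻¹ := by group
      rw [e]
      exact this.mpr hi2
    have key : ∀ (X : Subgroup M4), Nat.card ↥X = 8 →
        (∀ m : M4, inD8 m.2 → m * t' = t' * m → m ∈ X) → I = X.map c.e₁.ι := by
      intro X hX hm
      apply Subgroup.eq_of_le_of_card_ge
      · intro b hb
        obtain ⟨b', hb', rfl⟩ := c.e₁.exists_of_mem_T (hIT hb)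
        rw [c.e₁.mem_map_iff]
        apply hm b' hb'
        have hb2 : c.e₁.ι b' ∈ cj y₀ T := by
          rw [hI, Subgroup.mem_inf] at hb; exact hb.2
        have := hc'comm _ hb2
        rwa [← ht'c, ← map_mul, ← map_mul, c.e₁.eq_iff] at this
      · rw [c.e₁.card_map, hX]; exact hcI
    rcases m_cent_invol t' ht' ht'2 ht'nc with h | h
    · have hIA := key E1m card_E1m (fun m hm hmt => h m hm hmt)
      apply hxO.2
      apply c.e₁.norm_A h₁
      rw [← hIA]
      exact hxI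
    · have hIA := key E2m card_E2m (fun m hm hmt => h m hm hmt)
      apply hxT
      apply hS₂ x hxS
      apply c.e₂.norm_A h₂
      rw [c.hA, ← hIA]
      exact hxI
  · -- `c'` is an outer element
    have hc'R : c' ∈ R := hT'R hc'T'
    have hc'O : Outer c c' := hOut c' hc'R hc'T
    have hsmall : ∀ a ∈ I ⊓ E1m.map c.e₁.ι, a = 1 ∨ a = c.e₁.ι tm := by
      intro a ha
      rw [Subgroup.mem_inf] at ha
      obtain ⟨haI, haA⟩ := ha
      have haT' : a ∈ cj y₀ T := by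
        rw [hI, Subgroup.mem_inf] at haI; exact haI.2
      have hcomm := hc'comm a haT'
      have hconj : c' * a * c'⁻¹ = a := by
        calc c' * a * c'⁻¹ = (a * c') * c'⁻¹ := by rw [hcomm]
          _ = a := by group
      have haA2 : a ∈ E2m.map c.e₁.ι := by
        rw [← hconj]; exact hc'O.conj_A₁ h₁ h₂ haA
      obtain ⟨m, hm, rfl⟩ := haA
      rw [c.e₁.mem_map_iff] at haA2
      rcases m_inter m hm haA2 with h | h | h | h
      · left; rw [h, map_one]
      · exfalso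
        have := hc'O.conj_c h₁
        rw [← h, hconj, c.e₁.eq_iff, h] at this
        exact m_tm_ne.2.2.2.1 this.symm
      · right; rw [h]
      · exfalso
        have := hc'O.conj_c' h₁
        rw [← h, hconj, c.e₁.eq_iff, h] at this
        exact m_tm_ne.2.2.2.1 this
    have hle2 : Nat.card ↥(I ⊓ E1m.map c.e₁.ι) ≤ 2 := card_le_two_of_forall hsmall
    have hcA : Nat.card ↥(E1m.map c.e₁.ι) = 8 := by rw [c.e₁.card_map, card_E1m]
    have hA2 : (E1m.map c.e₁.ι).relIndex T = 2 := by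
      have := card_mul_relIndex_of_le c.e₁.A_le_T
      rw [hcA, hcT] at this
      omega
    have hI2 : I.relIndex T ≤ 2 := by
      have := card_mul_relIndex_of_le hIT
      rw [hcT] at this
      by_contra hlt
      push Not at hlt
      have : 8 * 3 ≤ Nat.card ↥I * I.relIndex T := Nat.mul_le_mul hcI hlt
      omega
    have h4 : (I ⊓ E1m.map c.e₁.ι).relIndex T ≤ 2 * 2 := by
      have := Subgroup.relIndex_inf_le (H := I) (K := E1m.map c.e₁.ι) (L := T)
      rw [hA2] at this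
      exact this.trans (Nat.mul_le_mul_right 2 hI2)
    have h5 := card_mul_relIndex_of_le (inf_le_left.trans hIT : I ⊓ E1m.map c.e₁.ι ≤ T)
    rw [hcT] at h5
    have : Nat.card ↥(I ⊓ E1m.map c.e₁.ι) * (I ⊓ E1m.map c.e₁.ι).relIndex T ≤ 2 * 4 :=
      Nat.mul_le_mul hle2 h4
    omega

end Cfsg.Agent.Lib.Helper5.KSFin
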