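import Mathlib
import Cfsg.Prelude
import Cfsg.Agent.Lib.Helper5.KSFin.Step5
import Cfsg.Agent.Lib.Helper1.ThompsonTransfer

set_option autoImplicit false
set_option linter.unusedSectionVars false
set_option linter.unusedVariables false
set_option maxHeartbeats 1000000
open Cfsg Equiv

/-! The central involution of `P₁ ≅ C₂ × S₄` lies outside the subgroup generated by the elements
of odd order, by the Thompson transfer lemma. -/

namespace Cfsg.Agent.Lib.Helper5.KSFin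

open Cfsg.Agent.Lib.Helper5.KSEnd

variable {G : Type*} [Group G] [Finite G] {T P₁ P₂ : Subgroup G}

/-- conjugation of a word in four images -/
theorem conj_word (ι : M4 →* G) (y : G) {a b c₀ d a' b' c' d' : M4}
    (ha : y * ι a * y⁻¹ = ι a') (hb : y * ι b * y⁻¹ = ι b') (hc : y * ι c₀ * y⁻¹ = ι c')
    (hd : y * ι d * y⁻¹ = ι d') (i j k : ℕ) :
    y * ι (a * (b ^ i * c₀ ^ j * d ^ k)) * y⁻¹ = ι (a' * (b' ^ i * c' ^ j * d' ^ k)) := by
  rw [map_mul, map_mul, map_mul, map_pow, map_pow, map_pow, ← conj_mul, ← conj_mul, ← conj_mul,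
    ← conj_pow, ← conj_pow, ← conj_pow, ha, hb, hc, hd, map_mul, map_mul, map_mul, map_pow,
    map_pow, map_pow]

/-- no conjugate of the central involution lies in `D` -/
theorem no_conj_in_D (c : Conf T P₁ P₂) (h₁ : IsMaximalTwoLocal P₁) (h₂ : IsMaximalTwoLocal P₂)
    (g : G) : g * c.e₁.ι cm * g⁻¹ ∉ D8m.map c.e₁.ι := by
  rintro ⟨d', hd', hd'eq⟩
  have hd'D : inD8m d' := hd'
  have hsq : d' * d' = 1 := by
    rw [← c.e₁.eq_one_iff, map_mul, hd'eq]
    calc g * c.e₁.ι cm * g⁻¹ * (g * c.e₁.ι cm * g⁻¹) = g * (c.e₁.ι cm * c.e₁.ι cm) * g⁻¹ := by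
          group
      _ = 1 := by rw [c.e₁.c_sq]; group
  have hne : d' ≠ 1 := by
    intro h
    rw [h, map_one] at hd'eq
    apply c.e₁.c_ne
    calc c.e₁.ι cm = g⁻¹ * (g * c.e₁.ι cm * g⁻¹) * g := by group
      _ = 1 := by rw [← hd'eq]; group
  rcases m_D8m_invol d' hd'D hsq with h | h
  · obtain ⟨p, hp⟩ := c.e₁.conj_z h hne
    apply c.e₁.not_conj_z h₁ (p * g)
    rw [← hp, hd'eq]; group
  · have hmem : c.e₁.ι d' ∈ V4m.map c.e₂.ι := by
      rw [c.hW]; exact ⟨d', h, rfl⟩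
    obtain ⟨m, hm, hmeq⟩ := hmem
    have hm1 : m ≠ 1 := by
      intro h1
      rw [h1, map_one] at hmeq
      exact hne (c.e₁.eq_one_iff.mp hmeq.symm)
    obtain ⟨p, hp⟩ := c.e₂.conj_z hm hm1
    apply c.e₁.not_conj_z h₁ (p * g)
    rw [← c.hz, ← hp, hmeq, hd'eq]; group

/-- the image of `vm` under an outer element -/
theorem outer_vm {c : Conf T P₁ P₂} (h₁ : IsMaximalTwoLocal P₁) (h₂ : IsMaximalTwoLocal P₂)
    {y : G} (hy : Outer c y) :
    ∃ u : M4, inW4m u ∧ ¬ inV4 u.2 ∧ y * c.e₁.ι vm * y⁻¹ = c.e₁.ι u := by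
  obtain ⟨u, hu, hueq⟩ := hy.conj_W₁ h₁ h₂ ⟨vm, m_vm.1, rfl⟩
  refine ⟨u, hu, ?_, hueq.symm⟩
  intro hv
  rcases m_W4m_V4 u hu hv with h | h
  · rw [h, map_one] at hueq
    apply m_vm.2.2.2.1
    rw [← c.e₁.eq_one_iff]
    calc c.e₁.ι vm = y⁻¹ * (y * c.e₁.ι vm * y⁻¹) * y := by group
      _ = 1 := by rw [← hueq]; group
  · rw [h] at hueq
    apply m_vm.2.2.2.2
    rw [← c.e₁.eq_iff]
    calc c.e₁.ι vm = y⁻¹ * (y * c.e₁.ι vm * y⁻¹) * y := by group
      _ = y⁻¹ * (y * c.e₁.ι tm * y⁻¹) * y := by rw [← hueq, hy.conj_z]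
      _ = c.e₁.ι tm := by group

/-- the square of an outer element lies in `D` -/
theorem sq_mem_D {c : Conf T P₁ P₂} (h₁ : IsMaximalTwoLocal P₁) (h₂ : IsMaximalTwoLocal P₂)
    {y : G} (hy : Outer c y) (hyy : y * y ∈ T) : y * y ∈ D8m.map c.e₁.ι := by
  obtain ⟨q, hq, hqeq⟩ := c.e₁.exists_of_mem_T hyy
  rcases m_Rm_split q hq with h | h
  · exact ⟨q, h, hqeq⟩
  exfalso
  obtain ⟨u, hu, hunv, hueq⟩ := outer_vm h₁ h₂ hy
  obtain ⟨i, j, k, hd'⟩ := m_D8m_pows u hu hunv (cm * q) h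
  have hq' : q = cm * (tm ^ (i : ℕ) * vm ^ (j : ℕ) * u ^ (k : ℕ)) := by
    rw [← hd', ← mul_assoc, cm_sq, one_mul]
  have hconj_u : y * c.e₁.ι u * y⁻¹ = c.e₁.ι (q * vm * q⁻¹) := by
    rw [← hueq, map_mul, map_mul, map_inv, hqeq]; group
  have hfix : y * c.e₁.ι q * y⁻¹ = c.e₁.ι q := by rw [hqeq]; group
  have hword := conj_word c.e₁.ι y (hy.conj_c h₁) hy.conj_z hueq hconj_u i j k
  rw [← hq', hfix] at hword
  have := c.e₁.eq_iff.mp hword
  apply m_6b u hu hunv i j k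
  rw [← hq']
  exact this.symm

/-- if `y` is an outer involution then the coset `c₁ y D` contains no involution -/
theorem no_invol_coset {c : Conf T P₁ P₂} (h₁ : IsMaximalTwoLocal P₁) (h₂ : IsMaximalTwoLocal P₂)
    {y : G} (hy : Outer c y) (hyy : y * y = 1) {d : G} (hd : d ∈ D8m.map c.e₁.ι) :
    (c.e₁.ι cm * y * d) * (c.e₁.ι cm * y * d) ≠ 1 := by
  intro hsq
  obtain ⟨d', hd', rfl⟩ := hd
  obtain ⟨u, hu, hunv, hueq⟩ := outer_vm h₁ h₂ hy
  obtain ⟨i, j, k, hd'eq⟩ := m_D8m_pows u hu hunv d' hd'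
  have hconj_u : y * c.e₁.ι u * y⁻¹ = c.e₁.ι vm := by
    rw [← hueq]
    calc y * (y * c.e₁.ι vm * y⁻¹) * y⁻¹ = (y * y) * c.e₁.ι vm * (y * y)⁻¹ := by group
      _ = c.e₁.ι vm := by rw [hyy]; group
  have hone : y * c.e₁.ι 1 * y⁻¹ = c.e₁.ι 1 := by rw [map_one]; group
  have hword := conj_word c.e₁.ι y hone hy.conj_z hueq hconj_u i j k
  rw [one_mul, one_mul, ← hd'eq] at hword
  have hyinv : y⁻¹ = y := inv_eq_of_mul_eq_one_left hyy
  have h1 : (c.e₁.ι cm * y * c.e₁.ι d') * (c.e₁.ι cm * y * c.e₁.ι d') =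
      c.e₁.ι cm * (y * c.e₁.ι d' * y⁻¹) * (y * c.e₁.ι cm * y⁻¹) * (y * y) * c.e₁.ι d' := by
    group
  rw [h1, hword, hy.conj_c h₁, hyy, mul_one, ← map_mul, ← map_mul, ← map_mul,
    c.e₁.eq_one_iff] at hsq
  apply m_6c u hu hunv i j k
  rw [← hd'eq]
  exact hsq

/-- the central involution lies outside the subgroup generated by the elements of odd order -/
theorem c_not_mem_H (c : Conf T P₁ P₂) (h₁ : IsMaximalTwoLocal P₁) (h₂ : IsMaximalTwoLocal P₂)
    (hT₁ : IsSylowTwoIn T P₁) (hT₂ : IsSylowTwoIn T P₂) :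
    c.e₁.ι cm ∉ Subgroup.closure {g : G | Odd (orderOf g)} := by
  haveI : Fact (Nat.Prime 2) := ⟨Nat.prime_two⟩
  obtain ⟨S, hTS⟩ := hT₁.2.1.exists_le_sylow
  have hS2 : IsPGroup 2 ↥(S : Subgroup G) := S.isPGroup'
  have hmeet : ∀ {P : Subgroup G}, IsSylowTwoIn T P → ∀ s ∈ (S : Subgroup G), s ∈ P → s ∈ T := by
    intro P hTP s hs hsP
    have hle : T ≤ (S : Subgroup G) ⊓ P := le_inf hTS hTP.1
    have hcard := card_le_of_sylow hTP (hS2.to_inf_left (K := P)) inf_le_right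
    have := Subgroup.eq_of_le_of_card_ge hle hcard
    rw [this]
    exact ⟨hs, hsP⟩
  have hS₁ := hmeet hT₁
  have hS₂ := hmeet hT₂
  have hnorm := sylow_normalizes c h₁ h₂ hS2 hTS hS₁ hS₂
  set D : Subgroup G := D8m.map c.e₁.ι with hD
  have hDT : D ≤ T := by
    rintro _ ⟨m, hm, rfl⟩
    exact (c.e₁.rm m).mpr (m_D8m_le m hm)
  have hcD : c.e₁.ι cm ∉ D := by
    rw [hD, c.e₁.mem_map_iff]
    exact m_cm_D8m
  have hsplit : ∀ t ∈ T, t ∈ D ∨ c.e₁.ι cm * t ∈ D := by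
    intro t ht
    obtain ⟨m, hm, rfl⟩ := c.e₁.exists_of_mem_T ht
    rcases m_Rm_split m hm with h | h
    · left; exact ⟨m, h, rfl⟩
    · right; rw [← map_mul]; exact ⟨cm * m, h, rfl⟩
  have hcinv : (c.e₁.ι cm)⁻¹ = c.e₁.ι cm := inv_eq_of_mul_eq_one_left c.e₁.c_sq
  have hord : orderOf (c.e₁.ι cm) = 2 := by
    apply orderOf_eq_prime
    · rw [pow_two]; exact c.e₁.c_sq
    · exact c.e₁.c_ne
  -- it suffices to find a subgroup of index two of `S` without conjugates of the involution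
  suffices hQ : ∃ Q : Subgroup G, Q ≤ (S : Subgroup G) ∧ Q.relIndex (S : Subgroup G) = 2 ∧
      ∀ g : G, g * c.e₁.ι cm * g⁻¹ ∉ Q by
    obtain ⟨Q, hQS, hQ2, hQc⟩ := hQ
    obtain ⟨M, hMn, hM2, hcM⟩ :=
      Cfsg.Agent.Lib.Helper1.thompson_transfer S Q hQS hQ2 (c.e₁.ι cm) hord hQc
    intro hH
    exact hcM (oddClosure_le_of_index_two hM2 hH)
  by_cases hTS' : T = (S : Subgroup G)
  · refine ⟨D, hDT.trans hTS, ?_, no_conj_in_D c h₁ h₂⟩
    apply relIndex_two_of_coset (hDT.trans hTS) (hTS c.e₁.c_mem_T) hcD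
    intro b hb hbD
    rw [← hTS'] at hb
    rcases hsplit b hb with h | h
    · exact absurd h hbD
    · rw [hcinv, c.e₁.c_comm (c.e₁.le hb)]
      exact h
  -- the case `T < S`
  have hOut : ∀ s ∈ (S : Subgroup G), s ∉ T → Outer c s := by
    intro s hs hsT
    exact ⟨hnorm s hs, fun h => hsT (hS₁ s hs h)⟩
  have hsqT : ∀ s ∈ (S : Subgroup G), s ∉ T → s * s ∈ T := by
    intro s hs hsT
    have := Outer.inv_mul_mem hS₁ h₁ (hOut s hs hsT).inv (hOut s hs hsT)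
      (Subgroup.inv_mem _ hs) hs
    simpa using this
  -- the common construction
  have hcore : ∀ s ∈ (S : Subgroup G), s ∉ T →
      (∀ d ∈ D, (s * d) * (s * d) ≠ 1) → ∃ Q : Subgroup G, Q ≤ (S : Subgroup G) ∧
        Q.relIndex (S : Subgroup G) = 2 ∧ ∀ g : G, g * c.e₁.ι cm * g⁻¹ ∉ Q := by
    intro s hs hsT hsd
    have hsO := hOut s hs hsT
    have hs2 : s * s ∈ D := sq_mem_D h₁ h₂ hsO (hsqT s hs hsT)
    refine ⟨adjoin D s hs2 (hsO.conj_D_iff h₁ h₂), ?_, ?_, ?_⟩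
    · intro a ha
      rcases ha with ha | ha
      · exact hTS (hDT ha)
      · have := Subgroup.mul_mem _ hs (hTS (hDT ha))
        have e : s * (s⁻¹ * a) = a := by group
        rwa [e] at this
    · have hcQ : c.e₁.ι cm ∉ adjoin D s hs2 (hsO.conj_D_iff h₁ h₂) := by
        rintro (h | h)
        · exact hcD h
        · apply hsT
          have h1 := T.mul_mem c.e₁.c_mem_T (T.inv_mem (hDT h))
          have e : c.e₁.ι cm * (s⁻¹ * c.e₁.ι cm)⁻¹ = s := by group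
          rwa [e] at h1
      apply relIndex_two_of_coset _ (hTS c.e₁.c_mem_T) hcQ
      · intro b hb hbQ
        rw [hcinv]
        by_cases hbT : b ∈ T
        · left
          rcases hsplit b hbT with h | h
          · exact absurd (Or.inl h) hbQ
          · rw [c.e₁.c_comm (c.e₁.le hbT)]
            exact h
        · right
          have h1 := Outer.inv_mul_mem hS₁ h₁ hsO (hOut b hb hbT) hs hb
          rcases hsplit _ h1 with h | h
          · exact absurd (Or.inr h) hbQ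
          · rw [← c.e₁.c_comm (c.e₁.le h1)] at h
            have e : s⁻¹ * (b * c.e₁.ι cm) = s⁻¹ * b * c.e₁.ι cm := by group
            rw [e]; exact h
      · intro a ha
        rcases ha with ha | ha
        · exact hTS (hDT ha)
        · have := Subgroup.mul_mem _ hs (hTS (hDT ha))
          have e : s * (s⁻¹ * a) = a := by group
          rwa [e] at this
    · intro g hg
      rcases hg with hg | hg
      · exact no_conj_in_D c h₁ h₂ g hg
      · apply hsd _ hg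
        have e : s * (s⁻¹ * (g * c.e₁.ι cm * g⁻¹)) = g * c.e₁.ι cm * g⁻¹ := by group
        rw [e]
        calc g * c.e₁.ι cm * g⁻¹ * (g * c.e₁.ι cm * g⁻¹)
            = g * (c.e₁.ι cm * c.e₁.ι cm) * g⁻¹ := by group
          _ = 1 := by rw [c.e₁.c_sq]; group
  obtain ⟨x, hxS, hxT, hxn⟩ := exists_normalizing hS2 hTS hTS'
  by_cases hinv : ∃ y ∈ (S : Subgroup G), y ∉ T ∧ y * y = 1
  · obtain ⟨y, hyS, hyT, hyy⟩ := hinv
    have hsS : c.e₁.ι cm * y ∈ (S : Subgroup G) := Subgroup.mul_mem _ (hTS c.e₁.c_mem_T) hyS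
    have hsT : c.e₁.ι cm * y ∉ T := by
      intro h
      apply hyT
      have := T.mul_mem (T.inv_mem c.e₁.c_mem_T) h
      have e : (c.e₁.ι cm)⁻¹ * (c.e₁.ι cm * y) = y := by group
      rwa [e] at this
    apply hcore _ hsS hsT
    intro d hd
    exact no_invol_coset h₁ h₂ (hOut y hyS hyT) hyy hd
  · apply hcore x hxS hxT
    intro d hd hsq
    apply hinv
    refine ⟨x * d, Subgroup.mul_mem _ hxS (hTS (hDT hd)), ?_, hsq⟩
    intro h
    apply hxT
    have := T.mul_mem h (T.inv_mem (hDT hd))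
    have e : x * d * d⁻¹ = x := by group
    rwa [e] at this

end Cfsg.Agent.Lib.Helper5.KSFin
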