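import Mathlib
import Cfsg.Prelude
import Cfsg.Agent.Lib.Helper5.KSFin.Transfer

set_option autoImplicit false
set_option linter.unusedSectionVars false
set_option linter.unusedVariables false
set_option maxHeartbeats 1000000
open Cfsg Equiv

/-! The structure of `P ∩ O²(G)` for a maximal `2`-local `P ≅ C₂ × S₄` whose central involution lies
outside `O²(G)`: it is isomorphic to `S₄` and a maximal `2`-local of `O²(G)`. -/

namespace Cfsg.Agent.Lib.Helper5.KSFin

open Cfsg.Agent.Lib.Helper5.KSEnd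

variable {G : Type*} [Group G] [Finite G] {P T : Subgroup G}

/-- an element of a `2`-group with trivial cube is trivial -/
theorem eq_one_of_two_group_cube {X : Subgroup G} (hX : IsPGroup 2 ↥X) {g : G} (hg : g ∈ X)
    (h3 : g ^ 3 = 1) : g = 1 := by
  obtain ⟨k, hk⟩ := hX ⟨g, hg⟩
  have hk' : g ^ 2 ^ k = 1 := by
    have := congrArg Subtype.val hk
    simpa using this
  have h1 : orderOf g ∣ 2 ^ k := orderOf_dvd_of_pow_eq_one hk'
  have h2 : orderOf g ∣ 3 := orderOf_dvd_of_pow_eq_one h3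
  have hc : Nat.Coprime (2 ^ k) 3 := Nat.Coprime.pow_left k (by norm_num)
  have h3' : orderOf g ∣ 1 := by
    have := Nat.dvd_gcd h1 h2
    rwa [hc] at this
  exact orderOf_eq_one_iff.mp (Nat.dvd_one.mp h3')

namespace Emb

variable (e : Emb P T)

/-- an element of the model whose image lies in a `2`-group has fourth power `1` -/
theorem pow_four_of_two_group {X : Subgroup G} (hX : IsPGroup 2 ↥X) {m : M4} (hm : e.ι m ∈ X) :
    m ^ 4 = 1 := by
  obtain ⟨k, hk⟩ := hX ⟨e.ι m, hm⟩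
  have hk' : (e.ι m) ^ 2 ^ k = 1 := by
    have := congrArg Subtype.val hk
    simpa using this
  rw [← map_pow, e.eq_one_iff] at hk'
  have h1 : orderOf m ∣ 2 ^ k := orderOf_dvd_of_pow_eq_one hk'
  have h2 : orderOf m ∣ 4 * 3 := orderOf_dvd_of_pow_eq_one (m_exp m)
  have hc : Nat.Coprime (orderOf m) 3 :=
    Nat.Coprime.coprime_dvd_left h1 (Nat.Coprime.pow_left k (by norm_num))
  have h4 : orderOf m ∣ 4 := Nat.Coprime.dvd_of_dvd_mul_right hc h2
  exact orderOf_dvd_iff_pow_eq_one.mp h4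

variable {H : Subgroup G}

/-- the intersection of `P` with the subgroup generated by the elements of odd order -/
theorem mem_H_iff (hH : H = Subgroup.closure {g : G | Odd (orderOf g)}) (hcH : e.ι cm ∉ H)
    (hWH : ∀ u, inW4m u → e.ι u ∈ H) (m : M4) : e.ι m ∈ H ↔ m.1 = 1 := by
  have hone : ∀ m : M4, m.1 = 1 → e.ι m ∈ H := by
    intro m hm
    obtain ⟨u₀, hu₀, hu₀v⟩ := m_W4m_exists
    rcases m_fst_one u₀ hu₀ hu₀v m hm with h | h
    · rw [hH]; exact e.O_le_H h
    · have h1 : e.ι (u₀⁻¹ * m) ∈ H := by rw [hH]; exact e.O_le_H h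
      have h2 := H.mul_mem (hWH u₀ hu₀) h1
      rw [← map_mul] at h2
      have e' : u₀ * (u₀⁻¹ * m) = m := by group
      rwa [e'] at h2
  constructor
  · intro hm
    by_contra hne
    apply hcH
    have h1 := hone (cm * m) (m_fst_ne m hne)
    have h2 := H.mul_mem h1 (H.inv_mem hm)
    rw [← map_inv, ← map_mul] at h2
    have e' : cm * m * m⁻¹ = cm := by group
    rwa [e'] at h2
  · exact hone m

/-- `P ∩ O²(G) ≅ S₄` -/
theorem iso_inf (hH : H = Subgroup.closure {g : G | Odd (orderOf g)}) (hcH : e.ι cm ∉ H)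
    (hWH : ∀ u, inW4m u → e.ι u ∈ H) : Nonempty (↥(P ⊓ H) ≃* Perm (Fin 4)) := by
  set f : Perm (Fin 4) →* G :=
    e.ι.comp (MonoidHom.inr (Multiplicative (ZMod 2)) (Perm (Fin 4))) with hf
  have hfapp : ∀ σ, f σ = e.ι (1, σ) := fun σ => rfl
  have hinj : Function.Injective f := by
    intro a b hab
    rw [hfapp, hfapp, e.eq_iff] at hab
    exact (Prod.ext_iff.mp hab).2
  have hrange : P ⊓ H = f.range := by
    ext g
    rw [Subgroup.mem_inf, MonoidHom.mem_range]
    constructor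
    · rintro ⟨hgP, hgH⟩
      obtain ⟨m, rfl⟩ := e.exists_of_mem_P hgP
      have := (e.mem_H_iff hH hcH hWH m).mp hgH
      refine ⟨m.2, ?_⟩
      rw [hfapp, ← m_fst_eq m this]
    · rintro ⟨σ, rfl⟩
      rw [hfapp]
      exact ⟨e.mem_P _, (e.mem_H_iff hH hcH hWH _).mpr rfl⟩
  exact ⟨(MulEquiv.subgroupCongr hrange).trans (MonoidHom.ofInjective hinj).symm⟩

/-- normalizer of the four-group inside `O²(G)` -/
theorem norm_W_iff (hP : IsMaximalTwoLocal P) {g : G} (hg : g ∈ H) :
    g ∈ Subgroup.normalizer ((V4m.map e.ι : Subgroup G) : Set G) ↔ g ∈ P ⊓ H := by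
  constructor
  · intro h
    refine ⟨e.norm_W hP ?_, hg⟩
    intro a ha
    exact (Subgroup.mem_normalizer_iff.mp h a).mp ha
  · rintro ⟨hgP, _⟩
    exact Subgroup.mem_normalizer_fintype (fun a ha => e.W_normal hgP ha)

/-- the maximality property of `P ∩ O²(G)` -/
theorem max_inf (hP : IsMaximalTwoLocal P)
    (hH : H = Subgroup.closure {g : G | Odd (orderOf g)}) (hcH : e.ι cm ∉ H)
    (hWH : ∀ u, inW4m u → e.ι u ∈ H) {X : Subgroup G} (hX : IsPGroup 2 ↥X) (hne : X ≠ ⊥)
    (hSX : P ⊓ H ≤ Subgroup.normalizer (X : Set G)) :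
    Subgroup.normalizer (X : Set G) ≤ P := by
  have hconj : ∀ s ∈ P ⊓ H, ∀ x ∈ X, s * x * s⁻¹ ∈ X := by
    intro s hs x hx
    exact (Subgroup.mem_normalizer_iff.mp (hSX hs) x).mp hx
  have hOS : ∀ d : M4, inA4m d → e.ι d ∈ P ⊓ H := by
    intro d hd
    refine ⟨e.mem_P d, ?_⟩
    rw [hH]; exact e.O_le_H hd
  have hWS : V4m.map e.ι ≤ P ⊓ H := by
    rintro _ ⟨m, hm, rfl⟩
    exact hOS m (m_V4m_le m hm).1
  -- commutators with elements of `O` stay in `X`
  have hcommX : ∀ m : M4, e.ι m ∈ X → ∀ d : M4, inA4m d → e.ι (m⁻¹ * (d * m * d⁻¹)) ∈ X := by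
    intro m hm d hd
    have h1 := hconj _ (hOS d hd) _ hm
    have h2 := X.mul_mem (X.inv_mem hm) h1
    rw [← map_inv, ← map_mul, ← map_inv, ← map_mul, ← map_mul] at h2
    exact h2
  -- elements of `X ∩ P` lie in `O₂(P)`
  have hA : ∀ m : M4, e.ι m ∈ X → inV4 m.2 := by
    intro m hm
    by_contra hnv
    obtain ⟨d, hd, h3, hne1⟩ := m_two_outside m (e.pow_four_of_two_group hX hm) hnv
    apply hne1
    rw [← e.eq_one_iff]
    apply eq_one_of_two_group_cube hX (hcommX m hm d hd)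
    rw [← map_pow, h3, map_one]
  -- a nontrivial element of `X` centralizing `W`
  have hW2 : IsPGroup 2 ↥(V4m.map e.ι) := e.isPGroup_map V4m 2 (by rw [card_V4m]; norm_num)
  obtain ⟨f, hfX, hf1, hfW⟩ := exists_fixed_of_normalizes hW2 hX hne
    (fun w hw x hx => hconj w (hWS hw) x hx)
  have hfP : f ∈ P := by
    apply e.norm_W hP
    intro a ha
    have := hfW a ha
    have e' : f * a * f⁻¹ = a := by
      calc f * a * f⁻¹ = (a * f) * f⁻¹ := by rw [this]
        _ = a := by group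
    rw [e']; exact ha
  obtain ⟨mf, rfl⟩ := e.exists_of_mem_P hfP
  by_cases hc : e.ι cm ∈ X
  · -- then `P` normalizes `X`
    have hPL : P ≤ Subgroup.normalizer (X : Set G) := by
      intro p hp
      obtain ⟨m, rfl⟩ := e.exists_of_mem_P hp
      by_cases hm : m.1 = 1
      · exact hSX ⟨e.mem_P m, (e.mem_H_iff hH hcH hWH m).mpr hm⟩
      · have h1 : e.ι (cm * m) ∈ Subgroup.normalizer (X : Set G) :=
          hSX ⟨e.mem_P _, (e.mem_H_iff hH hcH hWH _).mpr (m_fst_ne m hm)⟩
        have h2 : e.ι cm ∈ Subgroup.normalizer (X : Set G) := Subgroup.le_normalizer hc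
        have h3 := Subgroup.mul_mem _ h2 h1
        rw [← map_mul, m_cm_cm_mul] at h3
        exact h3
    exact (hP.2 _ ⟨X, hX, hne, rfl⟩ hPL).le
  · -- then `X = W`
    have hmf2 : mf.2 ≠ 1 := by
      intro h
      rcases m_snd_one mf h with h' | h'
      · apply hf1; rw [h', map_one]
      · apply hc; rw [← h']; exact hfX
    have hWX : V4m.map e.ι ≤ X := by
      rintro _ ⟨w, hw, rfl⟩
      obtain ⟨d₁, hd₁, d₂, hd₂, hweq⟩ := m_V4m_gen mf (hA mf hfX) hmf2 w hw
      rw [hweq, map_mul]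
      exact X.mul_mem (hcommX mf hfX d₁ hd₁) (hcommX mf hfX d₂ hd₂)
    have hXP : ∀ n ∈ X, n ∈ P → n ∈ V4m.map e.ι := by
      intro n hnX hnP
      obtain ⟨m, rfl⟩ := e.exists_of_mem_P hnP
      rcases m_E1m_split m (hA m hnX) with h | h
      · exact ⟨m, h, rfl⟩
      · exfalso
        apply hc
        have h1 : e.ι (cm * m) ∈ X := hWX ⟨cm * m, h, rfl⟩
        have h2 := X.mul_mem h1 (X.inv_mem hnX)
        rw [← map_inv, ← map_mul] at h2
        have e' : cm * m * m⁻¹ = cm := by group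
        rwa [e'] at h2
    have hXW : V4m.map e.ι = X := by
      by_contra hneq
      obtain ⟨n, hnX, hnW, hnn⟩ := exists_normalizing hX hWX hneq
      apply hnW
      apply hXP n hnX
      apply e.norm_W hP
      intro a ha
      exact (hnn a).mpr ha
    intro g hg
    apply e.norm_W hP
    intro a ha
    rw [← hXW] at hg
    exact (Subgroup.mem_normalizer_iff.mp hg a).mp ha

end Emb

end Cfsg.Agent.Lib.Helper5.KSFin
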