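import Mathlib
import Cfsg.Prelude
import Cfsg.Agent.Lib.Helper5.KSFin.CaseB

set_option autoImplicit false
set_option linter.unusedSectionVars false
set_option linter.unusedVariables false
set_option maxHeartbeats 1000000
open Cfsg Equiv

/-! The endgame in the case `P₁ ≅ P₂ ≅ C₂ × S₄`. -/

namespace Cfsg.Agent.Lib.Helper5.KSFin

open Cfsg.Agent.Lib.Helper5.KSEnd

variable {G : Type*} [Group G] [Finite G] {T P₁ P₂ : Subgroup G}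

/-- one maximal `2`-local `P ≅ C₂ × S₄`: `P ∩ O²(G)` is a maximal `2`-local of `O²(G)` isomorphic to
`S₄` -/
theorem one_side {P : Subgroup G} (e : Emb P T) (hP : IsMaximalTwoLocal P) {H : Subgroup G}
    (hH : H = Subgroup.closure {g : G | Odd (orderOf g)}) (hcH : e.ι cm ∉ H)
    (hWH : ∀ u, inW4m u → e.ι u ∈ H) :
    IsMaximalTwoLocal ((P ⊓ H).subgroupOf H) ∧
      Nonempty (↥((P ⊓ H).subgroupOf H) ≃* Perm (Fin 4)) := by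
  constructor
  · apply maxTwoLocal_subgroupOf (W := V4m.map e.ι)
      (e.isPGroup_map V4m 2 (by rw [card_V4m]; norm_num))
    · intro h
      have : e.ι tm ∈ (⊥ : Subgroup G) := by
        rw [← h, e.mem_map_iff]
        exact m_tm_V4m.1
      exact e.z_ne (Subgroup.mem_bot.mp this)
    · rintro _ ⟨m, hm, rfl⟩
      rw [hH]; exact e.W_le_H hm
    · exact inf_le_right
    · intro g hg
      exact e.norm_W_iff hP hg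
    · intro X hXH hX2 hXne hSX g hg hgn
      exact ⟨e.max_inf hP hH hcH hWH hX2 hXne hSX hgn, hg⟩
  · obtain ⟨φ⟩ := e.iso_inf hH hcH hWH
    exact ⟨(Subgroup.subgroupOfEquivOfLe (inf_le_right : P ⊓ H ≤ H)).trans φ⟩

theorem endgame_B (hne : P₁ ≠ P₂) (h₁ : IsMaximalTwoLocal P₁) (h₂ : IsMaximalTwoLocal P₂)
    (hT₁ : IsSylowTwoIn T P₁) (hT₂ : IsSylowTwoIn T P₂) (ψ₁ : ↥P₁ ≃* M4) (ψ₂ : ↥P₂ ≃* M4)
    (H : Subgroup G) (hH : H = Subgroup.closure {g : G | Odd (orderOf g)}) :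
    ∃ M₁ M₂ : Subgroup ↥H, M₁ ≠ M₂ ∧ IsMaximalTwoLocal M₁ ∧ IsMaximalTwoLocal M₂ ∧
      Nonempty (↥M₁ ≃* Perm (Fin 4)) ∧ Nonempty (↥M₂ ≃* Perm (Fin 4)) ∧
        Nat.card ↥(M₁ ⊓ M₂) = 8 := by
  obtain ⟨e₁⟩ := exists_emb ψ₁ hT₁
  obtain ⟨e₂⟩ := exists_emb ψ₂ hT₂
  obtain ⟨c, -⟩ := exists_conf e₁ e₂ h₁ h₂ hne
  obtain ⟨c', -⟩ := exists_conf e₂ e₁ h₂ h₁ hne.symm
  have hcH₁ : c.e₁.ι cm ∉ H := by rw [hH]; exact c_not_mem_H c h₁ h₂ hT₁ hT₂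
  have hcH₂ : c'.e₁.ι cm ∉ H := by rw [hH]; exact c_not_mem_H c' h₂ h₁ hT₂ hT₁
  have hWH₁ : ∀ u, inW4m u → c.e₁.ι u ∈ H := by
    intro u hu
    have : c.e₁.ι u ∈ W4m.map c.e₁.ι := ⟨u, hu, rfl⟩
    rw [← c.hW] at this
    obtain ⟨m, hm, hmeq⟩ := this
    rw [← hmeq, hH]; exact c.e₂.W_le_H hm
  have hWH₂ : ∀ u, inW4m u → c'.e₁.ι u ∈ H := by
    intro u hu
    have : c'.e₁.ι u ∈ W4m.map c'.e₁.ι := ⟨u, hu, rfl⟩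
    rw [← c'.hW] at this
    obtain ⟨m, hm, hmeq⟩ := this
    rw [← hmeq, hH]; exact c'.e₂.W_le_H hm
  obtain ⟨hM₁, ⟨φ₁⟩⟩ := one_side c.e₁ h₁ hH hcH₁ hWH₁
  obtain ⟨hM₂, ⟨φ₂⟩⟩ := one_side c'.e₁ h₂ hH hcH₂ hWH₂
  -- the intersection
  have hinter : (P₁ ⊓ H) ⊓ (P₂ ⊓ H) = D8m.map c.e₁.ι := by
    ext g
    constructor
    · rintro ⟨⟨hg₁, hgH⟩, hg₂, -⟩
      obtain ⟨m, rfl⟩ := c.e₁.exists_of_mem_P hg₁
      have h1 := c.e₂.c_comm hg₂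
      rw [c.hc, ← map_mul, ← map_mul, c.e₁.eq_iff] at h1
      have h2 := (c.e₁.mem_H_iff hH hcH₁ hWH₁ m).mp hgH
      exact ⟨m, ⟨h2, m_cent_tmcm m h1⟩, rfl⟩
    · rintro ⟨m, hm, rfl⟩
      have hm' : inD8m m := hm
      have hT : c.e₁.ι m ∈ T := (c.e₁.rm m).mpr hm'.2
      have hgH : c.e₁.ι m ∈ H := (c.e₁.mem_H_iff hH hcH₁ hWH₁ m).mpr hm'.1
      exact ⟨⟨c.e₁.mem_P m, hgH⟩, c.e₂.le hT, hgH⟩
  have hcard : Nat.card ↥(((P₁ ⊓ H).subgroupOf H) ⊓ ((P₂ ⊓ H).subgroupOf H)) = 8 := by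
    have h1 : ((P₁ ⊓ H).subgroupOf H) ⊓ ((P₂ ⊓ H).subgroupOf H) =
        ((P₁ ⊓ H) ⊓ (P₂ ⊓ H)).subgroupOf H := by
      ext g
      simp only [Subgroup.mem_inf, Subgroup.mem_subgroupOf]
    rw [h1, Nat.card_congr (Subgroup.subgroupOfEquivOfLe
      ((inf_le_left.trans inf_le_right) : (P₁ ⊓ H) ⊓ (P₂ ⊓ H) ≤ H)).toEquiv, hinter,
      c.e₁.card_map, card_D8m]
  refine ⟨(P₁ ⊓ H).subgroupOf H, (P₂ ⊓ H).subgroupOf H, ?_, hM₁, hM₂, ⟨φ₁⟩, ⟨φ₂⟩, hcard⟩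
  intro heq
  rw [← heq, inf_idem, Nat.card_congr φ₁.toEquiv, Nat.card_perm, Nat.card_fin] at hcard
  revert hcard
  decide

end Cfsg.Agent.Lib.Helper5.KSFin
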