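import Mathlib
import Cfsg.Prelude
import Cfsg.Agent.Lib.Helper5.KSFin.MainB
import Cfsg.Agent.Lib.Helper5.KSFin.CaseA

set_option autoImplicit false
set_option linter.unusedSectionVars false
set_option linter.unusedVariables false
set_option maxHeartbeats 1000000
open Cfsg Equiv

/-! The endgame of the main theorem on groups of local characteristic `2` with solvable `2`-locals:
from two maximal `2`-locals `P₁ ≠ P₂` sharing a Sylow `2`-subgroup, both isomorphic to `S₄` or both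
to `S₄ × C₂`, to two maximal `2`-locals of `O²(G)` isomorphic to `S₄` meeting in a subgroup of
order `8`. -/

namespace Cfsg.Agent.Lib.Helper5.KSFin

open Cfsg.Agent.Lib.Helper5.KSEnd

theorem endgame {G : Type*} [Group G] [Finite G] (H : Subgroup G)
    (hH : H = Subgroup.closure {g : G | Odd (orderOf g)}) {T P₁ P₂ : Subgroup G} (hne : P₁ ≠ P₂)
    (h₁ : IsMaximalTwoLocal P₁) (h₂ : IsMaximalTwoLocal P₂)
    (hT₁ : IsSylowTwoIn T P₁) (hT₂ : IsSylowTwoIn T P₂)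
    (hiso : (Nonempty (↥P₁ ≃* Perm (Fin 4)) ∧ Nonempty (↥P₂ ≃* Perm (Fin 4))) ∨
      (Nonempty (↥P₁ ≃* Perm (Fin 4) × Multiplicative (ZMod 2)) ∧
        Nonempty (↥P₂ ≃* Perm (Fin 4) × Multiplicative (ZMod 2)))) :
    ∃ M₁ M₂ : Subgroup ↥H, M₁ ≠ M₂ ∧ IsMaximalTwoLocal M₁ ∧ IsMaximalTwoLocal M₂ ∧
      Nonempty (↥M₁ ≃* Perm (Fin 4)) ∧ Nonempty (↥M₂ ≃* Perm (Fin 4)) ∧
        Nat.card ↥(M₁ ⊓ M₂) = 8 := by
  rcases hiso with ⟨⟨ψ₁⟩, ⟨ψ₂⟩⟩ | ⟨⟨ψ₁⟩, ⟨ψ₂⟩⟩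
  · exact endgame_A hne h₁ h₂ hT₁ hT₂ ψ₁ ψ₂ H hH
  · exact endgame_B hne h₁ h₂ hT₁ hT₂ (ψ₁.trans MulEquiv.prodComm) (ψ₂.trans MulEquiv.prodComm)
      H hH

end Cfsg.Agent.Lib.Helper5.KSFin
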