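import Mathlib
import Cfsg.Prelude
import Cfsg.Agent.Lib.Helper5.KSFin.Main
import Cfsg.Agent.Lib.Helper9.KTe

set_option autoImplicit false
set_option linter.unusedSectionVars false
set_option linter.unusedVariables false
set_option maxHeartbeats 1000000
open Cfsg Equiv

/-! Assembly of the main theorem on groups of local characteristic `2` with solvable `2`-locals from
the strongly embedded criterion, the theorem on maximal straddling `2`-subgroups and the endgame. -/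

namespace Cfsg.Agent.Lib.Helper5.KSFin

variable {G : Type*} [Group G]

/-- a nonempty family of straddling `2`-subgroups has a maximal member -/
theorem exists_maxStraddling [Finite G] {M : Subgroup G}
    (h : (straddlingTwoSubgroups M).Nonempty) : ∃ T, T ∈ maxStraddlingTwoSubgroups M := by
  obtain ⟨T₀, hT₀, hmax⟩ := Set.exists_max_image (straddlingTwoSubgroups M)
    (fun T : Subgroup G => toLex (maxElemAbelianOrder T,
      toLex (Nat.card ↥(thompsonSubgroupOf 2 T), Nat.card ↥T))) (Set.toFinite _) h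
  refine ⟨T₀, hT₀, ?_⟩
  intro T hT
  have h1 := hmax T hT
  rw [Prod.Lex.toLex_le_toLex] at h1
  rcases h1 with h1 | ⟨h1, h2⟩
  · exact ⟨h1.le, fun h => absurd h (ne_of_lt h1)⟩
  · refine ⟨h1.le, fun _ => ?_⟩
    rw [Prod.Lex.toLex_le_toLex] at h2
    rcases h2 with h2 | ⟨h2, h3⟩
    · exact ⟨h2.le, fun h => absurd h (ne_of_lt h2)⟩
    · exact ⟨h2.le, fun _ => h3⟩

/-- the hypothesis on the centralizer of the central involutions in terms of `Ω₁(Z(S))` -/
theorem hZ_omega (hZ : ∀ S : Sylow 2 G,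
      Subgroup.centralizer {z : G | z ∈ (S : Subgroup G) ∧ z ^ 2 = 1 ∧
        ∀ s ∈ (S : Subgroup G), s * z = z * s} ≤ Subgroup.normalizer ((S : Subgroup G) : Set G))
    (S : Sylow 2 G) :
    Subgroup.centralizer (omegaCenterOf (S : Subgroup G) : Set G) ≤
      Subgroup.normalizer ((S : Subgroup G) : Set G) := by
  refine le_trans (Subgroup.centralizer_le ?_) (hZ S)
  rintro z ⟨hzS, hz2, hzc⟩
  apply Subgroup.subset_closure
  refine ⟨⟨hzS, ?_⟩, hz2⟩
  exact Subgroup.mem_centralizer_iff.mpr hzc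

theorem s0518_glue [Finite G] (hL : IsCharacteristicTwoType G)
    (h2947 : ∀ (S : Sylow 2 G) (M : Subgroup G), IsTwoLocal M →
      Subgroup.normalizer (thompsonSubgroupOf 2 (S : Subgroup G) : Set G) ≤ M →
        (IsStronglyEmbedded M ↔ straddlingTwoSubgroups M = ∅))
    (h2954 : ∀ (S : Sylow 2 G) (M : Subgroup G), IsTwoLocal M →
      Subgroup.normalizer (thompsonSubgroupOf 2 (S : Subgroup G) : Set G) ≤ M →
        ∀ T ∈ maxStraddlingTwoSubgroups M,
          ∃ P₁ P₂ : Subgroup G, P₁ ≠ P₂ ∧ IsMaximalTwoLocal P₁ ∧ IsMaximalTwoLocal P₂ ∧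
            IsSylowTwoIn T P₁ ∧ IsSylowTwoIn T P₂ ∧
            ((Nonempty (↥P₁ ≃* Perm (Fin 4)) ∧ Nonempty (↥P₂ ≃* Perm (Fin 4))) ∨
              (Nonempty (↥P₁ ≃* Perm (Fin 4) × Multiplicative (ZMod 2)) ∧
                Nonempty (↥P₂ ≃* Perm (Fin 4) × Multiplicative (ZMod 2)))))
    (H : Subgroup G) (hH : H = Subgroup.closure {g : G | Odd (orderOf g)}) :
    (∃ K : Subgroup G, IsStronglyEmbedded K) ∨
      ∃ M₁ M₂ : Subgroup H, M₁ ≠ M₂ ∧ IsMaximalTwoLocal M₁ ∧ IsMaximalTwoLocal M₂ ∧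
        Nonempty (M₁ ≃* Perm (Fin 4)) ∧ Nonempty (M₂ ≃* Perm (Fin 4)) ∧
          Nat.card ↥(M₁ ⊓ M₂) = 8 := by
  haveI : Fact (Nat.Prime 2) := ⟨Nat.prime_two⟩
  obtain ⟨S⟩ : Nonempty (Sylow 2 G) := inferInstance
  have hSne : (S : Subgroup G) ≠ ⊥ := S.ne_bot_of_dvd_card (even_iff_two_dvd.mp hL.1)
  have hJ2 : IsPGroup 2 ↥(thompsonSubgroupOf 2 (S : Subgroup G)) := by
    apply S.isPGroup'.to_le
    rw [thompsonSubgroupOf]
    exact Subgroup.map_subtype_le _
  have hJne : thompsonSubgroupOf 2 (S : Subgroup G) ≠ ⊥ :=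
    Cfsg.Agent.Lib.Helper9.KS.thompson_ne_bot S.isPGroup' hSne
  set M : Subgroup G := Subgroup.normalizer (thompsonSubgroupOf 2 (S : Subgroup G) : Set G)
    with hMdef
  have hM : IsTwoLocal M := ⟨_, hJ2, hJne, rfl⟩
  by_cases hstr : straddlingTwoSubgroups M = ∅
  · left
    exact ⟨M, (h2947 S M hM le_rfl).mpr hstr⟩
  · right
    obtain ⟨T, hT⟩ := exists_maxStraddling (Set.nonempty_iff_ne_empty.mpr hstr)
    obtain ⟨P₁, P₂, hne, h₁, h₂, hT₁, hT₂, hiso⟩ := h2954 S M hM le_rfl T hT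
    exact endgame H hH hne h₁ h₂ hT₁ hT₂ hiso

end Cfsg.Agent.Lib.Helper5.KSFin
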